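import Cfsg.Agent.H8.Cls
import Cfsg.Agent.H9.PSolv
import Cfsg.Agent.L.PSolv
import Cfsg.Agent.H2.BG1

/-! The upper `p`-series and `p`-length. -/

set_option autoImplicit false

namespace Cfsg.Agent.Reg

open Subgroup hiding commutator_def
open Function Cfsg.Agent.Hopf
open scoped commutatorElement

universe u

variable {G : Type u} [Group G] [Finite G] {p : ℕ} [hp : Fact p.Prime]

theorem mem_pCore_of_frattini (hG : IsPSolvable p G) (hO : pPrimeCore p G = ⊥) {g : G}
    (h : ∀ x ∈ pCore p G, ⁅g, x⁆ ∈ (frattini (pCore p G)).map (pCore p G).subtype) : g ∈ pCore p G := by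
  obtain ⟨F, hF⟩ : ∃ F, F = (frattini (pCore p G)).map (pCore p G).subtype := ⟨_, rfl⟩
  have : F.Normal := hF ▸ H1.normal_map_subtype_of_char _ _
  obtain ⟨C, hC⟩ : ∃ C, C = (centralizer ((pCore p G).map (QuotientGroup.mk' F) : Set (G ⧸ F))).comap
    (QuotientGroup.mk' F) := ⟨_, rfl⟩
  have : ((pCore p G).map (QuotientGroup.mk' F)).Normal := Normal.map inferInstance _ (QuotientGroup.mk'_surjective F)
  have h1 : ∀ Q : Subgroup G, Q ≤ C ↔ ⁅Q, pCore p G⁆ ≤ F := fun Q => by
    rw [H1.commutator_le_iff_map_mk', hC, map_le_iff_le_comap]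
  have h2 : g ∈ C := zpowers_le.1 ((h1 _).2 (by
    rw [H1.commutator_le_iff_map_mk', MonoidHom.map_zpowers, zpowers_le]
    rintro _ ⟨x, hx, rfl⟩
    refine (commutatorElement_eq_one_iff_commute.1 ?_).symm
    rw [← map_commutatorElement]; exact (QuotientGroup.eq_one_iff _).2 (hF ▸ h x hx)))
  refine H1.le_of_forall_isPGroup_le (N := C) (fun q hq Q hQ h3 => ?_) h2
  have := Fact.mk hq
  by_cases hqp : q = p
  · subst hqp
    refine hQ.trans (H1.le_pCore (hC ▸ inferInstance) (IsPGroup.iff_card.2 ⟨_, Nat.eq_prime_pow_of_unique_prime_dvd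
      Nat.card_pos.ne' fun {r} hr hd => by_contra fun hne => ?_⟩))
    have := Fact.mk hr
    obtain ⟨R, hR⟩ := H1.exists_isSylowIn r C
    have h4 := (H1.le_centralizer_of_commutator_le_frattini le_normalizer_of_normal
      (IsPGroup.coprime_card_of_ne r q hne _ _ hR.2.1 ((H1.isPGroup_pCore q G).to_subgroup _))
      (by rw [commutator_comm, ← hF]; exact (h1 R).1 hR.1)).trans (L.centralizer_pCore_le_of_isPSolvable hG hO)
    exact hR.ne_bot hd (disjoint_self.1 ((IsPGroup.disjoint_of_ne r q hne _ _ hR.2.1 (H1.isPGroup_pCore q G)).mono_right h4))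
  · exact (H1.le_centralizer_of_commutator_le_frattini le_normalizer_of_normal
      (IsPGroup.coprime_card_of_ne q p hqp _ _ h3 ((H1.isPGroup_pCore p G).to_subgroup _))
      (by rw [commutator_comm, ← hF]; exact (h1 Q).1 hQ)).trans (L.centralizer_pCore_le_of_isPSolvable hG hO)

/-- the upper `p`-series -/
abbrev U (p : ℕ) (G : Type u) [Group G] (n : ℕ) : Subgroup G := (upperPSeries p G n).1

omit [Finite G] hp in
theorem U_le_succ (n : ℕ) : U p G n ≤ U p G (n + 1) := by
  by_cases h : Even n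
  · rw [U, U, H2.ups_succ_even h]; exact QuotientGroup.le_comap_mk' _ _
  · rw [U, U, H2.ups_succ_odd h]; exact QuotientGroup.le_comap_mk' _ _

omit [Finite G] hp in
theorem U_mono : Monotone (U p G) := monotone_nat_of_le_succ U_le_succ

omit hp in
theorem le_U_odd (k : ℕ) {N : Subgroup G} [N.Normal] (h : ((U p G (2 * k)).relIndex N).Coprime p) :
    N ≤ U p G (2 * k + 1) := by
  rw [U, H2.ups_succ_even (by simp), ← map_le_iff_le_comap]
  exact H1.le_pPrimeCore (Normal.map inferInstance _ (QuotientGroup.mk'_surjective _)) (by rwa [H1.card_map_mk'])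

omit hp [Finite G] in
theorem le_U_even (k : ℕ) {N : Subgroup G} [N.Normal] {m : ℕ} (h : (U p G (2 * k + 1)).relIndex N = p ^ m) :
    N ≤ U p G (2 * k + 2) := by
  rw [U, H2.ups_succ_odd (by simp), ← map_le_iff_le_comap]
  exact H1.le_pCore (Normal.map inferInstance _ (QuotientGroup.mk'_surjective _))
    (IsPGroup.of_card (by rwa [H1.card_map_mk']))

omit hp in
theorem relIndex_comap_mk (N : Subgroup G) [N.Normal] (K : Subgroup (G ⧸ N)) :
    N.relIndex (K.comap (QuotientGroup.mk' N)) = Nat.card K := by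
  rw [← H1.card_map_mk', H1.map_comap_mk']

omit hp in
theorem U_odd_cop (k : ℕ) : ((U p G (2 * k)).relIndex (U p G (2 * k + 1))).Coprime p := by
  rw [U, U, H2.ups_succ_even (by simp), relIndex_comap_mk]; exact H1.coprime_pPrimeCore _ _

theorem U_even_pow (k : ℕ) : ∃ m, (U p G (2 * k + 1)).relIndex (U p G (2 * k + 2)) = p ^ m := by
  rw [U, U, H2.ups_succ_odd (n := 2 * k + 1) (by simp), relIndex_comap_mk]
  exact IsPGroup.iff_card.1 (H1.isPGroup_pCore _ _)

omit hp in
theorem map_U_even (k : ℕ) : (U p G (2 * k + 2)).map (QuotientGroup.mk' (U p G (2 * k + 1))) =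
    pCore p (G ⧸ U p G (2 * k + 1)) := by
  rw [show U p G (2 * k + 2) = _ from H2.ups_succ_odd (n := 2 * k + 1) (by simp), H1.map_comap_mk']

omit hp in
theorem pPrimeCore_quot_U (k : ℕ) : pPrimeCore p (G ⧸ U p G (2 * k + 1)) = ⊥ := by
  rw [← H1.map_comap_mk' _ (pPrimeCore p _), H1.map_mk'_eq_bot_iff]
  refine le_U_odd k ?_
  rw [← relIndex_mul_relIndex _ (U p G (2 * k + 1)) _ (U_le_succ _) (QuotientGroup.le_comap_mk' _ _), relIndex_comap_mk]
  exact (U_odd_cop k).mul_left (H1.coprime_pPrimeCore _ _)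

theorem pCore_quot_U (k : ℕ) : pCore p (G ⧸ U p G (2 * k + 2)) = ⊥ := by
  rw [← H1.map_comap_mk' _ (pCore p _), H1.map_mk'_eq_bot_iff]
  obtain ⟨a, ha⟩ := U_even_pow (G := G) (p := p) k
  obtain ⟨b, hb⟩ := IsPGroup.iff_card.1 (H1.isPGroup_pCore p (G ⧸ U p G (2 * k + 2)))
  refine le_U_even k (m := a + b) ?_
  rw [← relIndex_mul_relIndex _ (U p G (2 * k + 2)) _ (U_le_succ _) (QuotientGroup.le_comap_mk' _ _), relIndex_comap_mk,
    ha, hb, pow_add]

/-- chains are dominated by the upper series -/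
theorem chain_le_U (H : ℕ → Subgroup G) [∀ i, (H i).Normal] (n : ℕ) (h0 : H 0 = ⊥)
    (h1 : ∀ k, 2 * k < n → ((H (2 * k)).relIndex (H (2 * k + 1))).Coprime p)
    (h2 : ∀ k, 2 * k + 1 < n → ∃ m, (H (2 * k + 1)).relIndex (H (2 * k + 2)) = p ^ m) : H n ≤ U p G n := by
  induction n with
  | zero => rw [h0]; exact bot_le
  | succ n ih =>
    have h3 := relIndex_dvd_of_le_left (H (n + 1)) (ih (fun k hk => h1 k (by omega)) fun k hk => h2 k (by omega))
    rcases Nat.even_or_odd' n with ⟨k, rfl | rfl⟩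
    · exact le_U_odd k ((h1 k (by omega)).coprime_dvd_left h3)
    · obtain ⟨m, hm⟩ := h2 k (by omega)
      obtain ⟨j, -, hj⟩ := (Nat.dvd_prime_pow hp.out).1 (hm ▸ h3)
      exact le_U_even k hj

theorem map_U_le {H : Type*} [Group H] [Finite H] (f : G →* H) (hf : Surjective f) (n : ℕ) :
    (U p G n).map f ≤ U p H n := by
  have : ∀ i, ((U p G i).map f).Normal := fun i => Normal.map inferInstance f hf
  have e : ∀ i j, ((U p G i).map f).relIndex ((U p G j).map f) ∣ (U p G i).relIndex (U p G j) := fun i j => by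
    rw [← relIndex_comap, comap_map_eq]; exact relIndex_dvd_of_le_left _ le_sup_left
  refine chain_le_U (fun i => (U p G i).map f) n (map_bot f) (fun k _ => (U_odd_cop k).coprime_dvd_left (e _ _)) fun k _ => ?_
  obtain ⟨m, hm⟩ := U_even_pow (G := G) (p := p) k
  obtain ⟨j, -, hj⟩ := (Nat.dvd_prime_pow hp.out).1 (hm ▸ e (2 * k + 1) (2 * k + 2))
  exact ⟨j, hj⟩

theorem comap_U_le {H : Type*} [Group H] [Finite H] (f : H →* G) (hf : Injective f) (n : ℕ) :
    (U p G n).comap f ≤ U p H n := by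
  have e : ∀ i j, ((U p G i).comap f).relIndex ((U p G j).comap f) ∣ (U p G i).relIndex (U p G j) := fun i j => by
    rw [relIndex_comap]; exact H1.relIndex_dvd_of_le_norm (map_comap_le _ _) le_normalizer_of_normal
  refine chain_le_U (fun i => (U p G i).comap f) n ((MonoidHom.ker_eq_bot_iff f).2 hf)
    (fun k _ => (U_odd_cop k).coprime_dvd_left (e _ _)) fun k _ => ?_
  obtain ⟨m, hm⟩ := U_even_pow (G := G) (p := p) k
  obtain ⟨j, -, hj⟩ := (Nat.dvd_prime_pow hp.out).1 (hm ▸ e (2 * k + 1) (2 * k + 2))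
  exact ⟨j, hj⟩

theorem plen_surj {H : Type*} [Group H] [Finite H] (f : G →* H) (hf : Surjective f) {k : ℕ} (h : PLengthLE p k G) :
    PLengthLE p k H := eq_top_iff.2 (by
  have := map_U_le (p := p) f hf (2 * k + 1)
  rwa [show U p G (2 * k + 1) = ⊤ from h, map_top_of_surjective f hf] at this)

theorem plen_inj {H : Type*} [Group H] [Finite H] (f : H →* G) (hf : Injective f) {k : ℕ} (h : PLengthLE p k G) :
    PLengthLE p k H := eq_top_iff.2 (by
  have := comap_U_le (p := p) f hf (2 * k + 1)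
  rwa [show U p G (2 * k + 1) = ⊤ from h, comap_top] at this)

omit hp [Finite G] in
theorem plen_mono {k l : ℕ} (hkl : k ≤ l) (h : PLengthLE p k G) : PLengthLE p l G :=
  eq_top_iff.2 (h.ge.trans (U_mono (by omega)))

omit hp in
theorem plen_zero : PLengthLE p 0 G ↔ (Nat.card G).Coprime p := by
  constructor
  · intro h
    have := U_odd_cop (G := G) (p := p) 0
    rwa [show U p G (2 * 0 + 1) = ⊤ from h, show U p G (2 * 0) = ⊥ from rfl, relIndex_bot_left, card_top] at this
  · exact fun h => eq_top_iff.2 (le_U_odd 0 (by rwa [show U p G (2 * 0) = ⊥ from rfl, relIndex_bot_left, card_top]))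

/-- extension: lengths add -/
theorem plen_ext (N : Subgroup G) [N.Normal] {k l : ℕ} (h1 : N ≤ U p G (2 * k + 1)) (h2 : PLengthLE p l (G ⧸ N)) :
    PLengthLE p (k + l) G := by
  have key : ∀ j, (U p (G ⧸ N) (2 * j + 1)).comap (QuotientGroup.mk' N) ≤ U p G (2 * (k + j) + 1) := fun j => by
    have e : ∀ a b, ((U p (G ⧸ N) a).comap (QuotientGroup.mk' N)).relIndex ((U p (G ⧸ N) b).comap (QuotientGroup.mk' N)) =
        (U p (G ⧸ N) a).relIndex (U p (G ⧸ N) b) := fun a b => by rw [relIndex_comap, H1.map_comap_mk']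
    induction j with
    | zero =>
      refine le_sup_left.trans (le_U_odd k (N := _ ⊔ U p G (2 * k + 1)) ?_)
      rw [← relIndex_mul_relIndex _ (U p G (2 * k + 1)) _ (U_le_succ _) le_sup_right, relIndex_sup_right]
      refine (U_odd_cop k).mul_left (Nat.Coprime.coprime_dvd_left (relIndex_dvd_of_le_left _ h1) ?_)
      rw [relIndex_comap_mk, ← relIndex_bot_left]
      exact U_odd_cop 0
    | succ j ih =>
      obtain ⟨m, hm⟩ := U_even_pow (G := G ⧸ N) (p := p) j
      have h3 := relIndex_dvd_of_le_left ((U p (G ⧸ N) (2 * j + 2)).comap (QuotientGroup.mk' N)) ih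
      rw [e, hm] at h3
      obtain ⟨i, -, hi⟩ := (Nat.dvd_prime_pow hp.out).1 h3
      have h4 := relIndex_dvd_of_le_left ((U p (G ⧸ N) (2 * (j + 1) + 1)).comap (QuotientGroup.mk' N)) (le_U_even _ hi)
      rw [e] at h4
      exact le_U_odd (k + j + 1) ((U_odd_cop (j + 1)).coprime_dvd_left h4)
  have := key l
  rwa [show U p (G ⧸ N) (2 * l + 1) = ⊤ from h2, comap_top, top_le_iff] at this

theorem map_U_le_of_normal (N : Subgroup G) [N.Normal] (n : ℕ) : (U p N n).map N.subtype ≤ U p G n := by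
  have hc : ∀ i, (U p N i).Characteristic := fun i => characteristic_iff_map_le.2 fun φ => map_U_le φ.toMonoidHom φ.surjective i
  have : ∀ i, ((U p N i).map N.subtype).Normal := fun i => H1.normal_map_subtype_of_char _ _
  have e : ∀ i j, ((U p N i).map N.subtype).relIndex ((U p N j).map N.subtype) = (U p N i).relIndex (U p N j) := fun i j =>
    relIndex_map_map_of_injective _ _ N.subtype_injective
  exact chain_le_U (fun i => (U p N i).map N.subtype) n (map_bot _) (fun k _ => e _ _ ▸ U_odd_cop k)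
    fun k _ => e _ _ ▸ U_even_pow k

theorem plen_ext' (N : Subgroup G) [N.Normal] {k l : ℕ} (h1 : PLengthLE p k N) (h2 : PLengthLE p l (G ⧸ N)) :
    PLengthLE p (k + l) G := plen_ext N (by
  have := map_U_le_of_normal (p := p) N (2 * k + 1)
  rwa [show U p N (2 * k + 1) = ⊤ from h1, ← MonoidHom.range_eq_map, range_subtype] at this) h2

theorem pPrimePCore_le_U : pPrimePCore p G ≤ U p G (2 * 1 + 1) := H2.ups_two.ge.trans (U_le_succ 2)

theorem cent_le_pPrimePCore (hG : IsPSolvable p G) {g : G} (h : ∀ x ∈ pPrimePCore p G, ⁅g, x⁆ ∈ pPrimeCore p G) :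
    g ∈ pPrimePCore p G := by
  refine L.centralizer_pCore_le_of_isPSolvable (H9.pSolv_map _ (QuotientGroup.mk'_surjective _) hG)
    (H1.pPrimeCore_quotient_eq_bot _ rfl) fun x hx => ?_
  obtain ⟨x, rfl⟩ := QuotientGroup.mk'_surjective _ x
  refine (commutatorElement_eq_one_iff_commute.1 ?_).symm
  rw [← map_commutatorElement]; exact (QuotientGroup.eq_one_iff _).2 (h x hx)

theorem pPrimePCore_ne_bot (hG : IsPSolvable p G) [Nontrivial G] : pPrimePCore p G ≠ ⊥ := fun h => by
  obtain ⟨g, hg⟩ := exists_ne (1 : G)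
  exact hg (mem_bot.1 (h ▸ cent_le_pPrimePCore hG fun x hx => by rw [show x = 1 from mem_bot.1 (h ▸ hx)]; simp))

theorem mem_pPrimePCore (hG : IsPSolvable p G) (P : Sylow p G) {g : G}
    (h : ∀ x ∈ (P : Subgroup G) ⊓ pPrimePCore p G, ⁅g, x⁆ ∈ pPrimeCore p G) : g ∈ pPrimePCore p G := by
  refine cent_le_pPrimePCore hG fun x hx => ?_
  obtain ⟨s, hs, e⟩ := H1.pCore_le_sylow (P.mapSurjective (QuotientGroup.mk'_surjective (pPrimeCore p G))) hx
  rw [← QuotientGroup.eq_one_iff, ← QuotientGroup.mk'_apply, map_commutatorElement, ← e, ← map_commutatorElement]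
  exact (QuotientGroup.eq_one_iff _).2 (h s (mem_inf.2 ⟨hs, by rw [pPrimePCore, mem_comap, e]; exact hx⟩))

theorem plen_quot {l : ℕ} (h : PLengthLE p (l + 1) G) : PLengthLE p l (G ⧸ U p G 2) := by
  have hf := QuotientGroup.mk'_surjective (U p G 2)
  have : ∀ i, ((U p G (i + 2)).map (QuotientGroup.mk' (U p G 2))).Normal := fun i => Normal.map inferInstance _ hf
  have e : ∀ i j, ((U p G i).map (QuotientGroup.mk' (U p G 2))).relIndex ((U p G j).map (QuotientGroup.mk' (U p G 2))) ∣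
      (U p G i).relIndex (U p G j) := fun i j => by
    rw [← relIndex_comap, comap_map_eq]; exact relIndex_dvd_of_le_left _ le_sup_left
  have := chain_le_U (p := p) (fun i => (U p G (i + 2)).map (QuotientGroup.mk' (U p G 2))) (2 * l + 1)
    (H1.map_mk'_eq_bot_iff.2 le_rfl) (fun k _ => (U_odd_cop (k + 1)).coprime_dvd_left (e _ _)) fun k _ => by
      obtain ⟨m, hm⟩ := U_even_pow (G := G) (p := p) (k + 1)
      obtain ⟨j, -, hj⟩ := (Nat.dvd_prime_pow hp.out).1 (hm ▸ e (2 * (k + 1) + 1) (2 * (k + 1) + 2))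
      exact ⟨j, hj⟩
  rwa [show U p G (2 * l + 1 + 2) = ⊤ from h, map_top_of_surjective _ hf, top_le_iff] at this

theorem plen_of_isPGroup (h : IsPGroup p G) : PLengthLE p 1 G :=
  eq_top_iff.2 (le_trans (by
    rw [pPrimePCore, H1.pCore_eq_top_iff.2 (h.to_quotient _), comap_top]) pPrimePCore_le_U)

theorem plen_step {l : ℕ} (h : PLengthLE p l (G ⧸ pPrimePCore p G)) : PLengthLE p (l + 1) G :=
  add_comm 1 l ▸ plen_ext _ pPrimePCore_le_U h

theorem plen_sub {l : ℕ} {M N : Subgroup G} [M.Normal] [N.Normal] (h : M ⊓ N = ⊥) (h1 : PLengthLE p l (G ⧸ M))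
    (h2 : PLengthLE p l (G ⧸ N)) : PLengthLE p l G := by
  have : ∀ i, ((U p (G ⧸ M) i).comap (QuotientGroup.mk' M) ⊓ (U p (G ⧸ N) i).comap (QuotientGroup.mk' N)).Normal :=
    fun i => inferInstance
  have e : ∀ i j, ((U p (G ⧸ M) i).comap (QuotientGroup.mk' M) ⊓ (U p (G ⧸ N) i).comap (QuotientGroup.mk' N)).relIndex
      ((U p (G ⧸ M) j).comap (QuotientGroup.mk' M) ⊓ (U p (G ⧸ N) j).comap (QuotientGroup.mk' N)) ∣
      (U p (G ⧸ M) i).relIndex (U p (G ⧸ M) j) * (U p (G ⧸ N) i).relIndex (U p (G ⧸ N) j) := fun i j => by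
    rw [← relIndex_inf_mul_relIndex]
    refine mul_dvd_mul ((H1.relIndex_dvd_of_le_norm (inf_le_right.trans inf_le_left) le_normalizer_of_normal).trans ?_)
      ((H1.relIndex_dvd_of_le_norm inf_le_right le_normalizer_of_normal).trans ?_) <;>
    rw [relIndex_comap, H1.map_comap_mk']
  have := chain_le_U (p := p) (fun i => (U p (G ⧸ M) i).comap (QuotientGroup.mk' M) ⊓
    (U p (G ⧸ N) i).comap (QuotientGroup.mk' N)) (2 * l + 1) (by
      change (QuotientGroup.mk' M).ker ⊓ (QuotientGroup.mk' N).ker = ⊥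
      rwa [QuotientGroup.ker_mk', QuotientGroup.ker_mk'])
    (fun k _ => ((U_odd_cop k).mul_left (U_odd_cop k)).coprime_dvd_left (e _ _)) fun k _ => by
      obtain ⟨a, ha⟩ := U_even_pow (G := G ⧸ M) (p := p) k
      obtain ⟨b, hb⟩ := U_even_pow (G := G ⧸ N) (p := p) k
      have := e (2 * k + 1) (2 * k + 2)
      rw [ha, hb, ← pow_add] at this
      obtain ⟨j, -, hj⟩ := (Nat.dvd_prime_pow hp.out).1 this
      exact ⟨j, hj⟩
  rwa [show U p (G ⧸ M) (2 * l + 1) = ⊤ from h1, show U p (G ⧸ N) (2 * l + 1) = ⊤ from h2, comap_top, comap_top,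
    inf_idem, top_le_iff] at this

omit hp [Finite G] in
theorem der_add {N : Subgroup G} {a b : ℕ} (h1 : derivedSeries G a ≤ N) :
    derivedSeries G (a + b) ≤ (derivedSeries N b).map N.subtype := by
  induction b with
  | zero => rwa [derivedSeries_zero, ← MonoidHom.range_eq_map, range_subtype]
  | succ b ih => rw [← add_assoc, derivedSeries_succ, derivedSeries_succ, map_commutator]; exact commutator_mono ih ih

omit hp [Finite G] in
theorem der_le_of_quot {N : Subgroup G} [N.Normal] {a : ℕ} (h : derivedSeries (G ⧸ N) a = ⊥) : derivedSeries G a ≤ N := by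
  rw [← H1.map_mk'_eq_bot_iff, map_derivedSeries_eq (QuotientGroup.mk'_surjective N), h]

end Cfsg.Agent.Reg
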