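import Cfsg.Agent.H8.Misc
import Cfsg.Agent.H2.BG4
import Cfsg.Agent.H8.FStar

/-! Passing from an operator group to subgroups of a semidirect product. -/

set_option autoImplicit false

namespace Cfsg.Agent.Reg

open Subgroup hiding commutator_def
open Function Cfsg.Agent.Hopf
open scoped commutatorElement

universe u v

theorem exists_amb (G : Type u) (A : Type v) [Group G] [Finite G] [Group A] [Finite A]
    [MulDistribMulAction A G] :
    ∃ (L : Type (max u v)) (_ : Group L) (_ : Finite L) (i : G →* L) (j : A →* L),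
      Injective i ∧ Injective j ∧ i.range.Normal ∧ ∀ a g, i (a • g) = j a * i g * (j a)⁻¹ := by
  let φ := MulDistribMulAction.toMulAut A G
  refine ⟨G ⋊[φ] A, inferInstance, Finite.of_equiv _ SemidirectProduct.equivProd.symm,
    SemidirectProduct.inl, SemidirectProduct.inr, SemidirectProduct.inl_injective,
    SemidirectProduct.inr_injective, ?_, fun a g => ?_⟩
  · rw [SemidirectProduct.range_inl_eq_ker_rightHom]; infer_instance
  · rw [← map_inv]
    exact SemidirectProduct.inl_aut a g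

variable {G : Type u} [Group G]

theorem comm_le_cent_cyc [Finite G] {X : Subgroup G} (hX : IsCyclic X) :
    ⁅normalizer (X : Set G), normalizer (X : Set G)⁆ ≤ centralizer (X : Set G) := by
  rw [commutator_le]
  intro a ha b hb c hc
  obtain ⟨k, hk⟩ := H2.exists_conj_eq_pow_cyclic hX ha
  obtain ⟨l, hl⟩ := H2.exists_conj_eq_pow_cyclic hX hb
  obtain ⟨d, hd, rfl⟩ : ∃ d ∈ X, c = b * a * d * (b * a)⁻¹ :=
    ⟨_, H1.inv_conj_mem_of_mem_normalizer (mul_mem hb ha) hc, by group⟩
  have e1 : b * a * d * (b * a)⁻¹ = b * (a * d * a⁻¹) * b⁻¹ := by group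
  have e2 : ⁅a, b⁆ * (b * a * d * (b * a)⁻¹) = a * (b * d * b⁻¹) * a⁻¹ * ⁅a, b⁆ := by
    simp only [commutatorElement_def]; group
  rw [e2, e1, hk d hd, hl d hd, hk _ (pow_mem hd l), hl _ (pow_mem hd k), ← pow_mul, ← pow_mul,
    mul_comm k l]

section
variable {A L : Type*} [Group A] [Group L] [MulDistribMulAction A G] {i : G →* L} {j : A →* L}

theorem amb_inv [Finite A] [Finite L] (hi : Injective i)
    (h : ∀ a g, i (a • g) = j a * i g * (j a)⁻¹) {H : Subgroup G} :
    j.range ≤ normalizer ((H.map i : Subgroup L) : Set L) ↔ ∀ a : A, ∀ x ∈ H, a • x ∈ H := by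
  constructor
  · intro h1 a x hx
    have := H1.conj_mem_of_mem_normalizer (h1 ⟨a, rfl⟩) (mem_map_of_mem i hx)
    rwa [← h, mem_map_iff_mem hi] at this
  · rintro h1 _ ⟨a, rfl⟩
    refine H1.mem_normalizer_of_conj_mem ?_
    rintro _ ⟨x, hx, rfl⟩
    rw [← h]
    exact mem_map_of_mem i (h1 a x hx)

theorem amb_fix (hi : Injective i) (h : ∀ a g, i (a • g) = j a * i g * (j a)⁻¹) {g : G} :
    i g ∈ centralizer ((j.range : Subgroup L) : Set L) ↔ ∀ a : A, a • g = g := by
  constructor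
  · intro h1 a
    apply hi
    rw [h, h1 _ ⟨a, rfl⟩, mul_inv_cancel_right]
  · rintro h1 _ ⟨a, rfl⟩
    have := h a g
    rw [h1] at this
    exact (eq_mul_inv_iff_mul_eq.1 this).symm

theorem amb_comm (h : ∀ a g, i (a • g) = j a * i g * (j a)⁻¹) :
    (closure {y : G | ∃ (a : A) (g : G), y = g⁻¹ * a • g}).map i = ⁅i.range, j.range⁆ := by
  rw [MonoidHom.map_closure, Subgroup.commutator_def]
  congr 1
  ext z
  constructor
  · rintro ⟨_, ⟨a, g, rfl⟩, rfl⟩
    refine ⟨i g⁻¹, ⟨_, rfl⟩, j a, ⟨_, rfl⟩, ?_⟩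
    simp [commutatorElement_def, h, mul_assoc]
  · rintro ⟨_, ⟨g, rfl⟩, _, ⟨a, rfl⟩, rfl⟩
    refine ⟨_, ⟨a, g⁻¹, rfl⟩, ?_⟩
    simp only [commutatorElement_def, h, mul_assoc, map_mul, map_inv, inv_inv]
end

theorem card_range_inj {H : Type*} [Group H] {f : G →* H} (hf : Injective f) :
    Nat.card f.range = Nat.card G :=
  (Nat.card_congr (MonoidHom.ofInjective hf).toEquiv).symm

theorem eq_of_le_cyc [Finite G] {P X Y : Subgroup G} (hP : IsCyclic P) (hX : X ≤ P) (hY : Y ≤ P)
    (h : Nat.card X = Nat.card Y) : X = Y := by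
  have := eq_of_cyc (H := X.subgroupOf P) (K := Y.subgroupOf P)
    (by rw [H1.card_subgroupOf hX, H1.card_subgroupOf hY, h])
  rw [← H1.map_subtype_subgroupOf hX, this, H1.map_subtype_subgroupOf hY]

theorem isCyclic_of_map {H : Type*} [Group H] {f : G →* H} (hf : Injective f) {X : Subgroup G}
    (h : IsCyclic (X.map f)) : IsCyclic X :=
  isCyclic_of_injective (X.equivMapOfInjective f hf).toMonoidHom (MulEquiv.injective _)

end Cfsg.Agent.Reg
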