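import Cfsg.Agent.H8.Cls

/-! Automorphisms of `p`-groups: free actions on generating tuples. -/

set_option autoImplicit false

namespace Cfsg.Agent.Reg

open Subgroup hiding commutator_def
open Function MulAction
open scoped commutatorElement

universe u

theorem card_preimage_hom {G H : Type*} [Group G] [Group H] (f : G →* H) (hf : Surjective f) (t : Set H) :
    Nat.card (f ⁻¹' t) = Nat.card f.ker * Nat.card t := by
  have e := QuotientGroup.quotientKerEquivOfSurjective f hf
  rw [← Nat.card_congr ((QuotientGroup.quotientKerEquivOfSurjective f hf).toEquiv.subtypeEquiv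
    (p := fun x => x ∈ (QuotientGroup.quotientKerEquivOfSurjective f hf) ⁻¹' t) (q := fun x => x ∈ t) fun _ => Iff.rfl)]
  exact QuotientGroup.card_preimage_mk f.ker ((QuotientGroup.quotientKerEquivOfSurjective f hf) ⁻¹' t)

variable {P : Type u} [Group P] [Finite P] {p : ℕ} [hp : Fact p.Prime]

theorem card_tuples (N : Subgroup P) [N.Normal] (r : ℕ) (t : Set (Fin r → P ⧸ N)) :
    Set.ncard {y : Fin r → P | (fun i => (y i : P ⧸ N)) ∈ t} = Nat.card N ^ r * t.ncard := by
  have h := card_preimage_hom ((QuotientGroup.mk' N).compLeft (Fin r))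
    (Function.Surjective.comp_left (QuotientGroup.mk'_surjective N)) t
  have h2 : Nat.card ((QuotientGroup.mk' N).compLeft (Fin r)).ker = Nat.card (Fin r → N) :=
    Nat.card_congr ((Equiv.subtypeEquivRight fun y => by
      rw [MonoidHom.mem_ker, funext_iff]
      exact forall_congr' fun i => QuotientGroup.eq_one_iff _).trans Equiv.subtypePiEquivPi)
  rw [h2, Nat.card_fun, Nat.card_eq_fintype_card (α := Fin r), Fintype.card_fin] at h
  exact h

omit [Finite P] in
theorem stab_bot {r : ℕ} (A : Subgroup (MulAut P)) {y : Fin r → P} (hy : closure (Set.range y) = ⊤) :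
    stabilizer A y = ⊥ := by
  rw [eq_bot_iff]
  intro a ha
  refine Subtype.ext (MulEquiv.toMonoidHom_injective (MonoidHom.eq_of_eqOn_dense hy ?_))
  rintro _ ⟨i, rfl⟩
  exact congrFun ha i

theorem add_li {V : Type*} [AddCommGroup V] [Finite V] [Module (ZMod p) V] {r : ℕ} (hr : Nat.card V = p ^ r) :
    Set.ncard {s : Fin r → V | AddSubgroup.closure (Set.range s) = ⊤} = ∏ i ∈ Finset.range r, (p ^ r - p ^ i) := by
  have h1 : Module.finrank (ZMod p) V = r := by
    have := Module.natCard_eq_pow_finrank (K := ZMod p) (V := V)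
    rw [Nat.card_zmod] at this
    exact Nat.pow_right_injective hp.out.two_le (this.symm.trans hr)
  have := card_linearIndependent (K := ZMod p) (V := V) h1.ge
  rw [h1, ZMod.card, Fin.prod_univ_eq_prod_range fun i => p ^ r - p ^ i] at this
  rw [← this]
  refine Nat.card_congr (Equiv.subtypeEquivRight fun y => ?_)
  have e : ⊤ ≤ Submodule.span (ZMod p) (Set.range y) ↔ AddSubgroup.closure (Set.range y) = ⊤ := by
    constructor
    · intro h2
      exact eq_top_iff.2 fun x _ => Submodule.span_le (p := AddSubgroup.toZModSubmodule p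
        (AddSubgroup.closure (Set.range y))).2 AddSubgroup.subset_closure (h2 Submodule.mem_top)
    · intro h2 x _
      exact (AddSubgroup.closure_le (Submodule.span (ZMod p) (Set.range y)).toAddSubgroup).2 Submodule.subset_span
        (h2 ▸ AddSubgroup.mem_top x)
  rw [Set.mem_setOf_eq, ← e]
  exact ⟨fun h2 => linearIndependent_of_top_le_span_of_card_eq_finrank h2 (by rw [h1, Fintype.card_fin]),
    fun h2 => (h2.span_eq_top_of_card_eq_finrank' (by rw [h1, Fintype.card_fin])).ge⟩

theorem mul_li {V : Type*} [CommGroup V] [Finite V] (h : ∀ x : V, x ^ p = 1) {r : ℕ} (hr : Nat.card V = p ^ r) :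
    Set.ncard {s : Fin r → V | closure (Set.range s) = ⊤} = ∏ i ∈ Finset.range r, (p ^ r - p ^ i) := by
  let _ : Module (ZMod p) (Additive V) := AddCommGroup.zmodModule fun x => h x
  rw [← add_li (V := Additive V) hr]
  refine Nat.card_congr (Equiv.subtypeEquivRight fun y => ?_)
  rw [Set.mem_setOf_eq, ← Subgroup.toAddSubgroup.injective.eq_iff, Subgroup.toAddSubgroup_closure, map_top]
  rfl

theorem exists_li (hP : IsPGroup p P) {r : ℕ} (hr : (frattini P).index = p ^ r) :
    ∃ t : Set (Fin r → P ⧸ frattini P), t.ncard = ∏ i ∈ Finset.range r, (p ^ r - p ^ i) ∧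
      ∀ y : Fin r → P, (fun i => (y i : P ⧸ frattini P)) ∈ t ↔ closure (Set.range y) = ⊤ := by
  have h := (H1.frattini_eq_bot_iff_of_isPGroup (hP.to_quotient (frattini P))).1 H1.frattini_quotient_frattini
  let _ : CommGroup (P ⧸ frattini P) := { (inferInstance : Group (P ⧸ frattini P)) with mul_comm := h.1.is_comm.comm }
  refine ⟨_, mul_li h.2 hr, fun y => ?_⟩
  have e : closure (Set.range fun i => (y i : P ⧸ frattini P)) = (closure (Set.range y)).map (QuotientGroup.mk' _) := by
    rw [MonoidHom.map_closure, ← Set.range_comp]; rfl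
  refine ⟨fun h2 => H1.eq_top_of_sup_frattini le_rfl ?_, fun h2 => e.trans ?_⟩
  · have := congrArg (comap (QuotientGroup.mk' (frattini P))) (e.symm.trans h2)
    rwa [comap_map_eq, QuotientGroup.ker_mk'] at this
  · rw [h2]; exact map_top_of_surjective _ (QuotientGroup.mk'_surjective _)

theorem card_frat {n r : ℕ} (hP : Nat.card P = p ^ n) (hr : (frattini P).index = p ^ r) :
    Nat.card (frattini P) ^ r = p ^ (r * (n - r)) := by
  have h := (frattini P).card_mul_index
  have h1 : r ≤ n := (Nat.pow_dvd_pow_iff_le_right hp.out.one_lt).1 (hr ▸ hP ▸ index_dvd_card _)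
  rw [hr, hP, show n = (n - r) + r by omega, pow_add, mul_left_inj' (pow_pos hp.out.pos r).ne'] at h
  rw [h, ← pow_mul, mul_comm]

end Cfsg.Agent.Reg
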