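import Cfsg.Agent.H8.Ree3

set_option autoImplicit false

namespace Cfsg.Agent.Reg
open Subgroup Cfsg.Agent.GS Finset Matrix Polynomial
open scoped MatrixGroups

section
variable {F : Type*} [Field F] {n : ℕ}

theorem psl_eq_one {g : SL(n, F)} :
    (g : PSL(n, F)) = 1 ↔ ∃ c : F, mt g = c • (1 : Matrix _ _ F) := by
  rw [QuotientGroup.eq_one_iff, Matrix.SpecialLinearGroup.mem_center_iff]
  constructor
  · rintro ⟨r, -, e⟩
    change _ = mt g at e
    exact ⟨r, by rw [← e, scalar_apply, smul_one_eq_diagonal]⟩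
  · rintro ⟨c, e⟩
    refine ⟨c, ?_, ?_⟩
    · have := mt_det g
      rwa [e, det_smul, det_one, mul_one] at this
    · change _ = mt g
      rw [e, scalar_apply, smul_one_eq_diagonal]

theorem psl_dvd {g : SL(n, F)} {k : ℕ} :
    orderOf (g : PSL(n, F)) ∣ k ↔ ∃ c : F, mt g ^ k = c • (1 : Matrix _ _ F) := by
  rw [orderOf_dvd_iff_pow_eq_one, ← QuotientGroup.mk_pow, psl_eq_one, map_pow]

theorem mt_order (g : SL(n, F)) : orderOf (mt g) = orderOf g := by
  refine Nat.dvd_antisymm (orderOf_dvd_of_pow_eq_one ?_) (orderOf_dvd_of_pow_eq_one (mt_inj ?_))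
  · rw [← map_pow, pow_orderOf_eq_one, map_one]
  · rw [map_pow, pow_orderOf_eq_one, map_one]

theorem nilp_aeval (A : Matrix (Fin n) (Fin n) F) (P : F[X])
    (h : ∀ f : F[X], Irreducible f → f ∣ minpoly F A → f ∣ P) : IsNilpotent (aeval A P) := by
  have key : ∀ μ : F[X], μ ≠ 0 → (∀ f : F[X], Irreducible f → f ∣ μ → f ∣ P) → ∃ k, μ ∣ P ^ k := by
    intro μ
    induction μ using WfDvdMonoid.induction_on_irreducible with
    | zero => simp
    | unit u hu => exact fun _ _ => ⟨0, hu.dvd⟩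
    | mul a i ha hi ih =>
      intro _ h
      obtain ⟨k, hk⟩ := ih ha fun f hf hd => h f hf (hd.mul_left _)
      exact ⟨k + 1, by rw [pow_succ']; exact mul_dvd_mul (h i hi (dvd_mul_right _ _)) hk⟩
  obtain ⟨k, hk⟩ := key _ (minpoly.ne_zero (Algebra.IsIntegral.isIntegral A)) h
  exact ⟨k, by rw [← map_pow]; exact minpoly.dvd_iff.1 hk⟩

theorem nil_pow_dim {N : Matrix (Fin n) (Fin n) F} (h : IsNilpotent N) : N ^ n = 0 := by
  have h1 := (Matrix.isNilpotent_charpoly_sub_pow_of_isNilpotent h).eq_zero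
  rw [sub_eq_zero, Fintype.card_fin] at h1
  have := N.aeval_self_charpoly
  rwa [h1, map_pow, aeval_X] at this

theorem unip_pow' (p : ℕ) [Fact p.Prime] [CharP F p] {A : Matrix (Fin n) (Fin n) F} {c : F}
    (h : IsNilpotent (A - c • 1)) {b : ℕ} (hb : n ≤ p ^ b) : A ^ p ^ b = c ^ p ^ b • 1 := by
  rcases Nat.eq_zero_or_pos n with rfl | hn
  · exact Subsingleton.elim _ _
  haveI : Nonempty (Fin n) := ⟨⟨0, hn⟩⟩
  have h1 := pow_eq_zero_of_le hb (nil_pow_dim h)
  rw [sub_pow_char_pow_of_commute _ _ ((Commute.one_right A).smul_right c), sub_eq_zero, _root_.smul_pow,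
    one_pow] at h1
  exact h1

theorem pow_of_factors (p : ℕ) [Fact p.Prime] [CharP F p] (A : Matrix (Fin n) (Fin n) F) (k : ℕ)
    (h : ∀ f : F[X], Irreducible f → f ∣ minpoly F A → f ∣ X ^ k - 1) :
    A ^ (k * p ^ n) = 1 := by
  have h1 := nilp_aeval A _ h
  rw [map_sub, map_pow, aeval_X, map_one] at h1
  have := unip_pow' p (A := A ^ k) (c := 1) (by simpa using h1) (b := n)
    (Nat.lt_pow_self (Fact.out : p.Prime).one_lt).le
  simpa [pow_mul] using this

theorem deg_le (A : Matrix (Fin n) (Fin n) F) {f : F[X]} (h : f ∣ minpoly F A) : f.natDegree ≤ n := by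
  have := natDegree_le_of_dvd (h.trans A.minpoly_dvd_charpoly) A.charpoly_monic.ne_zero
  rwa [charpoly_natDegree_eq_dim, Fintype.card_fin] at this

/-- The order of `X` modulo `f`. -/
noncomputable def ordX (f : F[X]) : ℕ := orderOf (AdjoinRoot.root f)

theorem ordX_dvd {f : F[X]} {k : ℕ} : ordX f ∣ k ↔ f ∣ X ^ k - 1 := by
  rw [ordX, orderOf_dvd_iff_pow_eq_one, ← AdjoinRoot.mk_eq_zero, map_sub, map_pow, AdjoinRoot.mk_X,
    map_one, sub_eq_zero]

theorem ordX_dvd_of {A : Matrix (Fin n) (Fin n) F} {f : F[X]} (h : f ∣ minpoly F A) {k : ℕ}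
    (hk : A ^ k = 1) : ordX f ∣ k :=
  ordX_dvd.2 (h.trans (minpoly.dvd_iff.2 (by simp [hk])))

theorem ordX_dvd_card [Fintype F] {f : F[X]} (hf : Irreducible f) (h0 : ordX f ≠ 0) :
    ordX f ∣ Fintype.card F ^ f.natDegree - 1 := by
  have h1 := (hf.natDegree_dvd_iff_dvd_X_pow_card_pow_sub_X (n := f.natDegree)).1 dvd_rfl
  rw [← AdjoinRoot.mk_eq_zero, map_sub, map_pow, AdjoinRoot.mk_X, sub_eq_zero,
    Nat.card_eq_fintype_card] at h1
  have hu : IsUnit (AdjoinRoot.root f) := (orderOf_ne_zero_iff.1 h0).isUnit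
  refine orderOf_dvd_of_pow_eq_one (hu.mul_right_cancel ?_)
  rw [← pow_succ, Nat.sub_add_cancel (Nat.one_le_pow _ _ Fintype.card_pos), h1, one_mul]

/-- A prime power dividing the order is seen on an irreducible factor. -/
theorem exists_factor (p : ℕ) [hp : Fact p.Prime] [CharP F p] {A : Matrix (Fin n) (Fin n) F}
    (h0 : orderOf A ≠ 0) {r e : ℕ} (hr : r.Prime) (hrp : r ≠ p) (he : e ≠ 0) (h : r ^ e ∣ orderOf A) :
    ∃ f : F[X], Irreducible f ∧ f ∣ minpoly F A ∧ r ^ e ∣ ordX f ∧ ordX f ≠ 0 := by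
  by_contra hc
  push Not at hc
  have key := pow_of_factors p A (r ^ (e - 1) * (ordCompl[r] (orderOf A))) fun f hf hd => by
    have h1 := ordX_dvd_of hd (pow_orderOf_eq_one A)
    have h2 : ordX f ≠ 0 := ne_zero_of_dvd_ne_zero h0 h1
    have h3 : ¬ r ^ e ∣ ordX f := fun h => h2 (hc f hf hd h)
    rw [← ordX_dvd, ← Nat.ordProj_mul_ordCompl_eq_self (ordX f) r]
    refine mul_dvd_mul (pow_dvd_pow _ ?_) (Nat.ordCompl_dvd_ordCompl_of_dvd h1 r)
    rw [hr.pow_dvd_iff_le_factorization h2] at h3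
    omega
  have h4 := h.trans (orderOf_dvd_of_pow_eq_one key)
  obtain ⟨e, rfl⟩ := Nat.exists_eq_succ_of_ne_zero he
  rw [Nat.succ_sub_one, pow_succ, mul_assoc, Nat.mul_dvd_mul_iff_left (pow_pos hr.pos _),
    hr.dvd_mul] at h4
  rcases h4 with h4 | h4
  · exact Nat.not_dvd_ordCompl hr h0 h4
  · exact hrp ((Nat.prime_dvd_prime_iff_eq hr hp.out).1 (hr.dvd_of_dvd_pow h4))

theorem idem_or (hn : 0 < n) (A : Matrix (Fin n) (Fin n) F) :
    (∃ e : Matrix (Fin n) (Fin n) F, e * e = e ∧ e ≠ 0 ∧ e ≠ 1 ∧ Commute e A) ∨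
      ∃ f : F[X], Irreducible f ∧ IsNilpotent (aeval A f) := by
  haveI : Nonempty (Fin n) := ⟨⟨0, hn⟩⟩
  have hi : IsIntegral F A := Algebra.IsIntegral.isIntegral A
  obtain ⟨f, hf, hd⟩ := WfDvdMonoid.exists_irreducible_factor (minpoly.not_isUnit F A) (minpoly.ne_zero hi)
  obtain ⟨j, g, hg, e⟩ := WfDvdMonoid.max_power_factor (minpoly.ne_zero hi) hf
  by_cases hu : IsUnit g
  · right
    refine ⟨f, hf, j, ?_⟩
    rw [← map_pow]
    exact minpoly.dvd_iff.1 (e ▸ hu.mul_right_dvd.2 dvd_rfl)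
  · left
    have hj : j ≠ 0 := by rintro rfl; rw [pow_zero, one_mul] at e; exact hg (e ▸ hd)
    obtain ⟨a, b, hab⟩ := ((hf.coprime_iff_not_dvd.2 hg).pow_left (m := j))
    have h0 : aeval A (f ^ j * g) = 0 := by rw [← e]; exact minpoly.aeval F A
    have hg0 : g ≠ 0 := by rintro rfl; exact hg (dvd_zero _)
    refine ⟨aeval A (b * g), ?_, fun h => ?_, fun h => ?_, ?_⟩
    · rw [← map_mul, show b * g * (b * g) = b * g - a * b * (f ^ j * g) by
        linear_combination (b * g) * hab, map_sub, map_mul _ (a * b), h0]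
      simp
    · have h1 := minpoly.dvd_iff.2 h
      rw [e, mul_dvd_mul_iff_right hg0] at h1
      have h2 : f ∣ 1 := hab ▸ dvd_add ((dvd_pow_self f hj).mul_left _)
        (((dvd_pow_self f hj).trans h1).mul_right _)
      exact hf.not_isUnit (isUnit_of_dvd_one h2)
    · have h1 : aeval A (a * f ^ j) = 0 := by
        rw [show a * f ^ j = 1 - b * g by linear_combination hab, map_sub, h]; simp
      have h2 := minpoly.dvd_iff.2 h1
      rw [e, mul_comm a, mul_dvd_mul_iff_left (pow_ne_zero _ hf.ne_zero)] at h2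
      exact hu (isUnit_of_dvd_one (hab ▸ dvd_add (h2.mul_right _) (dvd_mul_left _ _)))
    · have : Commute (aeval A (b * g)) (aeval A (X : F[X])) := (Commute.all _ _).map _
      rwa [aeval_X] at this

theorem idem_pow {e : Matrix (Fin n) (Fin n) F} (he : e * e = e) (z : F) (k : ℕ) :
    (z • e + (1 - e)) ^ k = z ^ k • e + (1 - e) := by
  induction k with
  | zero => simp
  | succ k ih =>
    rw [pow_succ, ih]
    simp only [add_mul, mul_add, smul_mul_assoc, mul_smul_comm, mul_sub, sub_mul, he, one_mul, mul_one,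
      sub_self, smul_zero, smul_smul, pow_succ, mul_comm z]
    simp [smul_smul, mul_comm]

theorem lcm_of_idem {r : ℕ} (hr : r.Prime) (hrn : ¬ r ∣ n) {z : F} (hz : orderOf z = r) (g : SL(n, F))
    {e : Matrix (Fin n) (Fin n) F} (he : e * e = e) (h0 : e ≠ 0) (h1 : e ≠ 1) (hc : Commute e (mt g)) :
    (orderOf (g : PSL(n, F))).lcm r ∈ spec PSL(n, F) := by
  haveI := Fact.mk hr
  have hzr : z ^ r = 1 := hz ▸ pow_orderOf_eq_one z
  have hz1 : z ≠ 1 := by rintro rfl; rw [orderOf_one] at hz; exact hr.one_lt.ne hz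
  obtain ⟨a, ha⟩ : ∃ a, a = (z • e + (1 - e)).det := ⟨_, rfl⟩
  have hc1 : (z • e + (1 - e)) ^ r = 1 := by rw [idem_pow he, hzr]; simp
  have har : a ^ r = 1 := by rw [ha, ← det_pow, hc1, det_one]
  obtain ⟨k, hk⟩ : ∃ k, r ∣ k * n + 1 := by
    obtain ⟨k, -, hk⟩ := Nat.exists_mul_mod_eq_of_coprime (r - 1)
      ((Nat.Prime.coprime_iff_not_dvd hr).2 hrn).symm hr.ne_zero
    refine ⟨k, ?_⟩
    rw [Nat.mod_eq_of_lt (Nat.sub_lt hr.pos one_pos)] at hk
    rw [mul_comm, ← Nat.div_add_mod (n * k) r, hk, add_assoc, Nat.sub_add_cancel hr.one_le]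
    simp
  have hd : (a ^ k • (z • e + (1 - e))).det = 1 := by
    obtain ⟨j, hj⟩ := hk
    rw [det_smul, ← ha, Fintype.card_fin, ← pow_mul, ← pow_succ, hj, pow_mul, har, one_pow]
  have ha0 : a ^ k ≠ 0 := pow_ne_zero _ (by rintro rfl; simp [hr.ne_zero] at har)
  have ho : orderOf ((mkSL' _ hd : SL(n, F)) : PSL(n, F)) = r := by
    refine orderOf_eq_prime (orderOf_dvd_iff_pow_eq_one.1 (psl_dvd.2 ⟨1, ?_⟩)) ?_
    · rw [mt_mk, _root_.smul_pow, hc1, ← pow_mul, mul_comm, pow_mul, har, one_pow]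
    · rw [Ne, psl_eq_one, mt_mk]
      rintro ⟨c, hc⟩
      have k1 : (1 - e) * e = 0 := by rw [sub_mul, he, one_mul, sub_self]
      have k2 : e * (1 - e) = 0 := by rw [mul_sub, he, mul_one, sub_self]
      have k3 : (1 - e) * (1 - e) = 1 - e := by rw [sub_mul, k2, one_mul, sub_zero]
      have e1 := congrArg (· * e) hc
      have e2 := congrArg (· * (1 - e)) hc
      simp only [add_mul, smul_mul_assoc, he, k1, k2, k3, one_mul, add_zero,
        smul_zero, zero_add, smul_smul] at e1 e2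
      have f1 := smul_left_injective F h0 e1
      have f2 := smul_left_injective F (sub_ne_zero.2 h1.symm) e2
      exact hz1 (mul_left_cancel₀ ha0 (by rw [mul_one]; exact f1.trans f2.symm))
  have hcm : Commute (g : PSL(n, F)) ((mkSL' _ hd : SL(n, F)) : PSL(n, F)) := by
    refine Commute.map (f := QuotientGroup.mk' _) (mt_inj ?_)
    rw [map_mul, map_mul, mt_mk]
    exact (((hc.smul_left z).add_left ((Commute.one_left _).sub_left hc)).smul_left _).eq.symm
  obtain ⟨y, -, hy⟩ := hcm.exists_orderOf_eq_lcm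
  exact ⟨y, by rw [hy, ho]⟩

theorem exists_rep (E : Type*) [CommRing E] [Algebra F E] [Module.Finite F E] {m : ℕ}
    (h : Module.finrank F E = m) :
    ∃ φ : E →ₐ[F] Matrix (Fin m) (Fin m) F, Function.Injective φ :=
  ⟨Algebra.leftMulMatrix (Module.finBasisOfFinrankEq F E h), Algebra.leftMulMatrix_injective _⟩

theorem mem_base [Fintype F] {E : Type*} [Field E] [Algebra F E] {x : E}
    (h : x ^ Fintype.card F = x) : ∃ c : F, x = algebraMap F E c := by
  classical
  have h1 := prod_multiset_X_sub_C_of_monic_of_roots_card_eq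
    (p := (X ^ Fintype.card F - X : F[X])) (monic_X_pow_sub (by
      rw [degree_X]; exact_mod_cast Fintype.one_lt_card)) (by
      rw [FiniteField.roots_X_pow_card_sub_X, FiniteField.X_pow_card_sub_X_natDegree_eq _ Fintype.one_lt_card]
      rfl)
  have h2 := congrArg (aeval x) h1
  rw [map_sub, map_pow, aeval_X, h, sub_self, map_multiset_prod, Multiset.prod_eq_zero_iff,
    Multiset.map_map, Multiset.mem_map] at h2
  obtain ⟨c, -, hc⟩ := h2
  exact ⟨c, by simpa [sub_eq_zero] using hc⟩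

/-- `(qⁿ - 1)/(q - 1)`. -/
def geo (q n : ℕ) : ℕ := ∑ i ∈ range n, q ^ i

theorem geo_mul {q : ℕ} (hq : 1 ≤ q) (n : ℕ) : geo q n * (q - 1) = q ^ n - 1 := by
  obtain ⟨q, rfl⟩ := Nat.exists_eq_add_of_le' hq
  have := geom_sum_mul_add q n
  rw [Nat.add_sub_cancel, geo]; omega

/-- The order of the image of a Singer cycle. -/
def sing (q n : ℕ) : ℕ := geo q n / (geo q n).gcd (q - 1)

theorem irred_pow [Fintype F] (hn : 0 < n) {A : Matrix (Fin n) (Fin n) F} (hA : A.det = 1) {f : F[X]}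
    (hf : Irreducible f) (h : aeval A f = 0) :
    A ^ geo (Fintype.card F) n = 1 ∧ ∃ c : F, A ^ sing (Fintype.card F) n = c • 1 := by
  haveI : Nonempty (Fin n) := ⟨⟨0, hn⟩⟩
  haveI := Fact.mk hf
  let φ : AdjoinRoot f →ₐ[F] Matrix (Fin n) (Fin n) F :=
    Ideal.Quotient.liftₐ (Ideal.span {f}) (aeval A) fun a ha => by
      obtain ⟨b, rfl⟩ := Ideal.mem_span_singleton.1 ha
      rw [map_mul, h, zero_mul]
  have hφ : φ (AdjoinRoot.root f) = A := aeval_X A
  have hinj : Function.Injective φ := φ.toRingHom.injective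
  letI : Module (AdjoinRoot f) (Fin n → F) :=
    Module.compHom _ ((Matrix.toLinAlgEquiv' (R := F) (n := Fin n)).toAlgHom.comp φ).toRingHom
  have hsm : ∀ (x : AdjoinRoot f) (v : Fin n → F), x • v = φ x *ᵥ v := fun _ _ => rfl
  haveI : IsScalarTower F (AdjoinRoot f) (Fin n → F) := ⟨fun c x v => by
    rw [hsm, hsm, map_smul, smul_mulVec]⟩
  haveI : Module.Finite F (AdjoinRoot f) := (AdjoinRoot.powerBasis hf.ne_zero).finite
  haveI : Finite (AdjoinRoot f) := Module.finite_of_finite F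
  letI := Fintype.ofFinite (AdjoinRoot f)
  obtain ⟨x, hx⟩ : ∃ x, x = AdjoinRoot.root f := ⟨_, rfl⟩
  rw [← hx] at hφ
  have h1 := LinearMap.det_restrictScalars (R := F) (S := AdjoinRoot f) (A := Fin n → F)
    (f := x • LinearMap.id)
  have h2 : (x • LinearMap.id : (Fin n → F) →ₗ[AdjoinRoot f] (Fin n → F)).restrictScalars F =
      Matrix.toLin' A := by
    ext1 v
    exact LinearMap.ext fun _ => by rw [← hφ]; rfl
  rw [h2, LinearMap.det_toLin', hA, LinearMap.det_smul, LinearMap.det_id, mul_one, map_pow] at h1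
  have h3 := congrArg (algebraMap F (AdjoinRoot f)) h1
  rw [map_one, map_pow, FiniteField.algebraMap_norm_eq_pow_sum, Nat.card_eq_fintype_card] at h3
  have h4 := Module.finrank_mul_finrank F (AdjoinRoot f) (Fin n → F)
  rw [Module.finrank_fin_fun] at h4
  obtain ⟨d, hd⟩ : ∃ d, d = Module.finrank F (AdjoinRoot f) := ⟨_, rfl⟩
  obtain ⟨m, hm⟩ : ∃ m, m = Module.finrank (AdjoinRoot f) (Fin n → F) := ⟨_, rfl⟩
  rw [← hd, ← hm] at h3 h4
  have h5 : ∀ (y : AdjoinRoot f) (i : ℕ), y ^ Fintype.card F ^ (d * i) = y := by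
    intro y i
    rw [pow_mul, hd, ← Module.card_eq_pow_finrank, FiniteField.pow_card_pow]
  have h6 : x ^ geo (Fintype.card F) n = 1 := by
    rw [h3, geo, ← h4, sum_range_mul_eq, ← prod_pow_eq_pow_sum, ← prod_pow_eq_pow_sum, ← prod_pow]
    refine prod_congr rfl fun j _ => ?_
    rw [← prod_pow_eq_pow_sum, prod_congr rfl fun i _ => (show _ = x ^ Fintype.card F ^ j by
      rw [pow_add, pow_mul, h5]), prod_const, card_range]
  refine ⟨by rw [← hφ, ← map_pow, h6, map_one], ?_⟩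
  obtain ⟨c, hc⟩ := mem_base (F := F) (x := x ^ sing (Fintype.card F) n) (by
    obtain ⟨j, hj⟩ := Nat.gcd_dvd_right (geo (Fintype.card F) n) (Fintype.card F - 1)
    have : (x ^ sing (Fintype.card F) n) ^ (Fintype.card F - 1) = 1 := by
      rw [hj, ← pow_mul, ← mul_assoc, sing, Nat.div_mul_cancel (Nat.gcd_dvd_left _ _), pow_mul, h6,
        one_pow]
    generalize x ^ sing (Fintype.card F) n = y at this
    rw [← Nat.sub_add_cancel (Fintype.card_pos (α := F)), pow_succ, this, one_mul])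
  exact ⟨c, by rw [← hφ, ← map_pow, hc, AlgHom.commutes, Algebra.algebraMap_eq_smul_one]⟩

theorem aeval_frob [Fintype F] (A : Matrix (Fin n) (Fin n) F) (f : F[X]) (t : ℕ) :
    aeval (A ^ Fintype.card F ^ t) f = aeval A f ^ Fintype.card F ^ t := by
  induction t with
  | zero => simp
  | succ t ih => rw [pow_succ, pow_mul, ← expand_aeval, FiniteField.expand_card, map_pow, ih, pow_mul]

theorem primary_dvd [Fintype F] (hn : 0 < n) (g : SL(n, F)) {f : F[X]} (hf : Irreducible f)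
    (h : IsNilpotent (aeval (mt g) f)) :
    orderOf (g : PSL(n, F)) ∣ Fintype.card F ^ n * sing (Fintype.card F) n := by
  have h1 : aeval (mt g ^ Fintype.card F ^ n) f = 0 := by
    rw [aeval_frob]
    exact pow_eq_zero_of_le (Nat.lt_pow_self Fintype.one_lt_card).le (nil_pow_dim h)
  obtain ⟨-, c, hc⟩ := irred_pow hn (by rw [det_pow, mt_det, one_pow]) hf h1
  exact psl_dvd.2 ⟨c, by rw [pow_mul, hc]⟩

theorem exists_singer [Fintype F] {d : ℕ} (hd : 0 < d) : ∃ A : Matrix (Fin d) (Fin d) F,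
    orderOf A = Fintype.card F ^ d - 1 ∧
      ∀ (k : ℕ) (c : F), A ^ k = c • (1 : Matrix (Fin d) (Fin d) F) → geo (Fintype.card F) d ∣ k := by
  obtain ⟨p, _, k, hp, hq⟩ := FiniteField.card' F
  haveI := Fact.mk hp
  haveI : NeZero d := ⟨hd.ne'⟩
  obtain ⟨φ, hφ⟩ := exists_rep (F := F) (FiniteField.Extension F p d) (FiniteField.finrank_extension F p d)
  obtain ⟨w, hw⟩ := IsCyclic.exists_ofOrder_eq_natCard (α := (FiniteField.Extension F p d)ˣ)
  rw [Nat.card_units, FiniteField.natCard_extension, Nat.card_eq_fintype_card, ← orderOf_units] at hw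
  refine ⟨φ w, by rw [← hw]; exact orderOf_injective φ.toRingHom.toMonoidHom hφ _, fun k c h => ?_⟩
  rw [← map_pow, ← Algebra.algebraMap_eq_smul_one, ← φ.commutes] at h
  have h1 := hφ h
  have hc : c ≠ 0 := by
    rintro rfl
    rw [map_zero] at h1
    exact pow_ne_zero k w.ne_zero h1
  have h2 : (w : FiniteField.Extension F p d) ^ (k * (Fintype.card F - 1)) = 1 := by
    rw [pow_mul, h1, ← map_pow, FiniteField.pow_card_sub_one_eq_one c hc, map_one]
  have h3 := orderOf_dvd_of_pow_eq_one h2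
  rw [hw, ← geo_mul Fintype.card_pos] at h3
  exact Nat.dvd_of_mul_dvd_mul_right (Nat.sub_pos_of_lt Fintype.one_lt_card) h3

theorem det_ne_of {A : Matrix (Fin n) (Fin n) F} (h : orderOf A ≠ 0) : A.det ≠ 0 := by
  intro e
  have := congrArg det (pow_orderOf_eq_one A)
  rw [det_pow, e, zero_pow h, det_one] at this
  exact zero_ne_one this

theorem sing_mem [Fintype F] (hn : 0 < n) : sing (Fintype.card F) n ∈ spec PSL(n, F) := by
  obtain ⟨A, h1, h2⟩ := exists_singer (F := F) hn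
  have h0 : orderOf A ≠ 0 := by
    rw [h1]; exact (Nat.sub_pos_of_lt (Nat.one_lt_pow hn.ne' Fintype.one_lt_card)).ne'
  have hd : (A ^ (Fintype.card F - 1)).det = 1 := by
    rw [det_pow, FiniteField.pow_card_sub_one_eq_one _ (det_ne_of h0)]
  refine mem_spec_of_dvd ⟨((mkSL' _ hd : SL(n, F)) : PSL(n, F)), rfl⟩ ?_
  obtain ⟨c, hc⟩ := psl_dvd.1 (dvd_refl (orderOf ((mkSL' _ hd : SL(n, F)) : PSL(n, F))))
  rw [mt_mk, ← pow_mul] at hc
  have h3 := h2 _ _ hc
  have hpos : 0 < (geo (Fintype.card F) n).gcd (Fintype.card F - 1) :=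
    Nat.gcd_pos_of_pos_right _ (Nat.sub_pos_of_lt Fintype.one_lt_card)
  refine (Nat.coprime_div_gcd_div_gcd hpos).dvd_of_dvd_mul_left ?_
  refine Nat.dvd_of_mul_dvd_mul_left hpos ?_
  rwa [← mul_assoc, Nat.mul_div_cancel' (Nat.gcd_dvd_left _ _), Nat.mul_div_cancel' (Nat.gcd_dvd_right _ _)]

/-- Block diagonal matrices. -/
def blk {a b : ℕ} (h : a + b = n) :
    Matrix (Fin a) (Fin a) F × Matrix (Fin b) (Fin b) F →* Matrix (Fin n) (Fin n) F where
  toFun x := reindexAlgEquiv F F (finSumFinEquiv.trans (finCongr h)) (fromBlocks x.1 0 0 x.2)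
  map_one' := by rw [Prod.fst_one, Prod.snd_one, fromBlocks_one, map_one]
  map_mul' x y := by rw [← map_mul, fromBlocks_multiply]; simp

theorem blk_det {a b : ℕ} (h : a + b = n) (A : Matrix (Fin a) (Fin a) F) (B : Matrix (Fin b) (Fin b) F) :
    (blk h (A, B)).det = A.det * B.det := by
  change (reindexAlgEquiv F F _ (fromBlocks A 0 0 B)).det = _
  rw [det_reindexAlgEquiv, det_fromBlocks_zero₁₂]

theorem blk_inj {a b : ℕ} (h : a + b = n) : Function.Injective (blk (F := F) h) := by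
  intro x y e
  have := fromBlocks_inj.1 ((reindexAlgEquiv F F _).injective e)
  exact Prod.ext this.1 this.2.2.2

theorem blk_smul {a b : ℕ} (h : a + b = n) (c : F) : blk (F := F) h (c • 1, c • 1) = c • 1 := by
  change reindexAlgEquiv F F _ (fromBlocks (c • 1) 0 0 (c • 1)) = _
  rw [← map_one (reindexAlgEquiv F F (finSumFinEquiv.trans (finCongr h))), ← map_smul, ← fromBlocks_one,
    fromBlocks_smul, smul_zero, smul_zero]

theorem blk_pow_eq {a b : ℕ} (h : a + b = n) {A : Matrix (Fin a) (Fin a) F} {B : Matrix (Fin b) (Fin b) F}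
    {k : ℕ} {c : F} : blk h (A, B) ^ k = c • 1 ↔ A ^ k = c • 1 ∧ B ^ k = c • 1 := by
  rw [← map_pow, ← blk_smul h, (blk_inj h).eq_iff, Prod.pow_mk, Prod.mk.injEq]

theorem blk_order {a b : ℕ} (h : a + b = n) (A : Matrix (Fin a) (Fin a) F) (B : Matrix (Fin b) (Fin b) F) :
    orderOf (blk h (A, B)) = (orderOf A).lcm (orderOf B) := by
  rw [orderOf_injective _ (blk_inj h), Prod.orderOf]

/-- Orders prime to `q - 1` pass from matrices to `PSL`. -/
theorem mem_spec_of_cop [Fintype F] {A : Matrix (Fin n) (Fin n) F} (h0 : orderOf A ≠ 0) {m : ℕ}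
    (hm : m ∣ orderOf A) (hc : m.Coprime (Fintype.card F - 1)) : m ∈ spec PSL(n, F) := by
  have hd : (A ^ (Fintype.card F - 1)).det = 1 := by
    rw [det_pow, FiniteField.pow_card_sub_one_eq_one _ (det_ne_of h0)]
  refine mem_spec_of_dvd ⟨((mkSL' _ hd : SL(n, F)) : PSL(n, F)), rfl⟩ ?_
  obtain ⟨c, hc1⟩ := psl_dvd.1 (dvd_refl (orderOf ((mkSL' _ hd : SL(n, F)) : PSL(n, F))))
  rw [mt_mk, ← pow_mul] at hc1
  rcases Nat.eq_zero_or_pos n with rfl | hn
  · rw [Subsingleton.elim A 1, orderOf_one] at hm; exact hm.trans (one_dvd _)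
  have hc0 : c ≠ 0 := by
    rintro rfl
    haveI : Nonempty (Fin n) := ⟨⟨0, hn⟩⟩
    have := congrArg det hc1
    rw [det_pow, zero_smul, det_zero] at this
    exact det_ne_of h0 (pow_eq_zero_iff'.1 this).1
  have h2 : A ^ ((Fintype.card F - 1) * orderOf ((mkSL' _ hd : SL(n, F)) : PSL(n, F)) *
      (Fintype.card F - 1)) = 1 := by
    rw [pow_mul, hc1, _root_.smul_pow, FiniteField.pow_card_sub_one_eq_one c hc0]; simp
  exact hc.dvd_of_dvd_mul_left (hc.dvd_of_dvd_mul_right (hm.trans (orderOf_dvd_of_pow_eq_one h2)))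

theorem exists_jordan (m : ℕ) : ∃ N : Matrix (Fin m) (Fin m) F, N ^ m = 0 ∧ ∀ k < m, N ^ k ≠ 0 := by
  have hm : (X ^ m : F[X]).Monic := monic_X_pow m
  haveI := (AdjoinRoot.powerBasis' hm).finite
  obtain ⟨φ, hφ⟩ := exists_rep (F := F) (AdjoinRoot (X ^ m : F[X])) (m := m) (by
    rw [(AdjoinRoot.powerBasis' hm).finrank, AdjoinRoot.powerBasis'_dim, natDegree_X_pow])
  refine ⟨φ (AdjoinRoot.root _), ?_, fun k hk h => ?_⟩
  · rw [← map_pow, ← AdjoinRoot.mk_X, ← map_pow, AdjoinRoot.mk_self, map_zero]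
  · rw [← map_pow, ← map_zero φ, hφ.eq_iff, ← AdjoinRoot.mk_X, ← map_pow, AdjoinRoot.mk_eq_zero] at h
    have := natDegree_le_of_dvd h (monic_X_pow k).ne_zero
    rw [natDegree_X_pow, natDegree_X_pow] at this
    omega

theorem det_unip (p : ℕ) [Fact p.Prime] [CharP F p] {N : Matrix (Fin n) (Fin n) F} (h : IsNilpotent N) :
    (1 + N).det = 1 := by
  have h1 := unip_pow' p (A := 1 + N) (c := 1) (by simpa using h) (b := n)
    (Nat.lt_pow_self (Fact.out : p.Prime).one_lt).le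
  have h2 := congrArg det h1
  rw [det_pow, one_pow, one_smul, det_one] at h2
  generalize (1 + N).det = y at h2 ⊢
  rw [← sub_eq_zero, ← one_pow (p ^ n), ← sub_pow_char_pow] at h2
  exact sub_eq_zero.1 (pow_eq_zero_iff'.1 h2).1

/-- The `p`-part of element orders. -/
theorem ppow_dvd [Fintype F] (p : ℕ) [Fact p.Prime] [CharP F p] {g : PSL(n, F)} {i b : ℕ}
    (h : orderOf g = p ^ i) (hb : n ≤ p ^ b) : p ^ i ∣ p ^ b := by
  obtain ⟨g, rfl⟩ := QuotientGroup.mk_surjective g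
  rcases Nat.eq_zero_or_pos n with rfl | hn
  · rw [← h]; exact psl_dvd.2 ⟨1, Subsingleton.elim _ _⟩
  haveI : Nonempty (Fin n) := ⟨⟨0, hn⟩⟩
  obtain ⟨c, hc⟩ := psl_dvd.1 h.dvd
  obtain ⟨c, rfl⟩ : ∃ c' : F, c' ^ p ^ i = c :=
    (Finite.injective_iff_surjective.1 (iterateFrobenius F p i).injective) c
  rw [← h]
  refine psl_dvd.2 ⟨_, unip_pow' p (c := c) ⟨p ^ i, ?_⟩ hb⟩
  rw [sub_pow_char_pow_of_commute _ _ ((Commute.one_right _).smul_right c), hc, _root_.smul_pow, one_pow,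
    sub_self]

end

end Cfsg.Agent.Reg
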