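import Cfsg.Agent.H8.Misc
import Cfsg.Agent.PF.S09h

/-! Order of an irreducible module of a group of prime order; closedness tools. -/

set_option autoImplicit false

namespace Cfsg.Agent.Reg

open Subgroup hiding commutator_def
open Function Cfsg.Agent.Hopf
open scoped commutatorElement

universe u

variable {G : Type u} [Group G] [Finite G]

theorem card_irr {p q : ℕ} [hp : Fact p.Prime] (hq : q.Prime) {V : Subgroup G}
    [IsMulCommutative V] (hV : ∀ v ∈ V, v ^ q = 1) {x : G} (hx : x ^ p ∈ centralizer (V : Set G))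
    (hn : x ∈ normalizer (V : Set G)) (hnc : x ∉ centralizer (V : Set G))
    (hirr : ∀ N ≤ V, x ∈ normalizer (N : Set G) → N = ⊥ ∨ N = V) :
    Nat.card V = q ^ orderOf (q : ZMod p) := by
  have hV1 : V ≠ ⊥ := by
    rintro rfl
    exact hnc fun y hy => by rw [mem_bot.1 hy]; simp
  obtain ⟨⟨w, hw⟩, hw1⟩ := ne_bot_iff_exists_ne_one.1 hV1
  have hw1' : w ≠ 1 := fun e => hw1 (Subtype.ext e)
  obtain ⟨F, _, _, f, hF, hbij, hadd, hmul, hfw⟩ := PF.irr_field (A := zpowers x) (V := V)
    (zpowers_le_of_mem hn) (by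
      rw [commutator_eq_bot_iff_le_centralizer.2 (le_centralizer _)]; exact bot_le)
    (fun N hN h => hirr N hN (h (mem_zpowers x))) hw hw1'
  obtain ⟨c, hc⟩ := hmul x (mem_zpowers x)
  have f1 : f 1 = 0 := by simpa using hadd 1 (one_mem _) 1 (one_mem _)
  have fpow : ∀ v ∈ V, ∀ n : ℕ, f (v ^ n) = n * f v := by
    intro v hv n
    induction n with
    | zero => simp [f1]
    | succ n ih => rw [pow_succ, hadd _ (pow_mem hv n) _ hv, ih]; push_cast; ring
  have finv : ∀ v ∈ V, f v⁻¹ = - f v := by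
    intro v hv
    have := hadd _ (inv_mem hv) _ hv
    rw [inv_mul_cancel, f1] at this
    exact eq_neg_of_add_eq_zero_left this.symm
  haveI := Fact.mk hq
  haveI : CharP F q := (CharP.charP_iff_prime_eq_zero hq).2 (by
    have := fpow w hw q
    rw [hV w hw, f1, hfw, mul_one] at this
    exact this.symm)
  obtain ⟨d, -, hd⟩ := FiniteField.card F q
  have hcn : ∀ n : ℕ, ∀ v ∈ V, f (x ^ n * v * (x ^ n)⁻¹) = c ^ n * f v := by
    intro n
    induction n with
    | zero => simp
    | succ n ih =>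
      intro v hv
      have e : x ^ (n + 1) * v * (x ^ (n + 1))⁻¹ = x * (x ^ n * v * (x ^ n)⁻¹) * x⁻¹ := by
        rw [pow_succ']; group
      rw [e, hc _ (H1.conj_mem_of_mem_normalizer (pow_mem hn n) hv), ih v hv]; ring
  have hcp : c ^ p = 1 := by
    have := hcn p w hw
    rw [← hx w hw, mul_inv_cancel_right, hfw, mul_one] at this
    exact this.symm
  have hc1 : c ≠ 1 := by
    rintro rfl
    refine hnc fun v hv => ?_
    have := hbij.injOn (H1.conj_mem_of_mem_normalizer hn hv) hv (by rw [hc v hv, one_mul])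
    exact (mul_inv_eq_iff_eq_mul.1 this).symm
  have hoc : orderOf c = p := orderOf_eq_prime hcp hc1
  have hc0 : c ≠ 0 := by
    rintro rfl
    rw [zero_pow hp.out.ne_zero] at hcp
    exact zero_ne_one hcp
  have key : ∀ n, p ∣ q ^ n - 1 ↔ (q : ZMod p) ^ n = 1 := fun n => by
    rw [← (Nat.modEq_iff_dvd' (Nat.one_le_pow _ _ hq.pos)), ← ZMod.natCast_eq_natCast_iff]
    simp [eq_comm]
  have h1 : (q : ZMod p) ^ (d : ℕ) = 1 := by
    rw [← key, ← hd, ← hoc]
    exact orderOf_dvd_of_pow_eq_one (FiniteField.pow_card_sub_one_eq_one c hc0)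
  obtain ⟨e, he⟩ : ∃ e, e = orderOf (q : ZMod p) := ⟨_, rfl⟩
  have he0 : 0 < e := he ▸ (isOfFinOrder_iff_pow_eq_one.2 ⟨d, d.pos, h1⟩).orderOf_pos
  have h2 : e ≤ d := Nat.le_of_dvd d.pos (he ▸ orderOf_dvd_of_pow_eq_one h1)
  have hce : c ^ q ^ e = c := by
    obtain ⟨k, hk⟩ := (key e).2 (he ▸ pow_orderOf_eq_one _)
    have : q ^ e = p * k + 1 := by have := Nat.one_le_pow e q hq.pos; omega
    rw [this, pow_succ, pow_mul, hcp]; simp
  let N : Subgroup G :=
    { carrier := {v | v ∈ V ∧ f v ^ q ^ e = f v}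
      one_mem' := ⟨one_mem _, by rw [f1, zero_pow (pow_pos hq.pos e).ne']⟩
      mul_mem' := by
        rintro a b ⟨ha, ha'⟩ ⟨hb, hb'⟩
        exact ⟨mul_mem ha hb, by rw [hadd a ha b hb, add_pow_char_pow, ha', hb']⟩
      inv_mem' := by
        rintro a ⟨ha, ha'⟩
        exact ⟨inv_mem ha, by rw [finv a ha, neg_pow, neg_one_pow_char_pow, ha']; simp⟩ }
  have hN : N = V := by
    refine (hirr N (fun v hv => hv.1) (H1.mem_normalizer_of_conj_mem fun v hv => ?_)).resolve_left
      fun e => hw1' ?_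
    · exact ⟨H1.conj_mem_of_mem_normalizer hn hv.1, by rw [hc v hv.1, mul_pow, hce, hv.2]⟩
    · rw [← mem_bot, ← e]
      exact ⟨hw, by rw [hfw, one_pow]⟩
  obtain ⟨g, hg⟩ := IsCyclic.exists_ofOrder_eq_natCard (α := Fˣ)
  have h3 : (g : F) ^ q ^ e = g := by
    obtain ⟨v, hv, e⟩ := hbij.surjOn (Set.mem_univ (g : F))
    have : v ∈ N := hN ▸ hv
    rw [← e]; exact this.2
  have h4 : g ^ (q ^ e - 1) = 1 := by
    have h5 : g ^ q ^ e = g := Units.ext (by simpa using h3)
    have h6 : q ^ e = (q ^ e - 1) + 1 := by have := Nat.one_le_pow e q hq.pos; omega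
    rw [h6, pow_succ] at h5
    simpa using h5
  have h5 := Nat.le_of_dvd (by have := Nat.one_lt_pow he0.ne' hq.one_lt; omega)
    (orderOf_dvd_of_pow_eq_one h4)
  rw [hg, Nat.card_units, Nat.card_eq_fintype_card, hd] at h5
  have h6 : q ^ (d : ℕ) ≤ q ^ e := by have := Nat.one_le_pow e q hq.pos; omega
  rw [← hF, hd, ← he, le_antisymm h2 ((Nat.pow_le_pow_iff_right hq.one_lt).1 h6)]

theorem closed_of_pgroup {p : ℕ} (h : IsPGroup p G) : IsPClosed p G := fun P => by
  have : (P : Subgroup G) = ⊤ := (P.3 (h.to_subgroup ⊤) le_top).symm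
  rw [this]; infer_instance

theorem closed_of_not_dvd {p : ℕ} [Fact p.Prime] (h : ¬ p ∣ Nat.card G) : IsPClosed p G :=
  fun P => by
    rw [H1.eq_bot_of_isPGroup_of_not_dvd P.2 fun h' => h (h'.trans (card_subgroup_dvd_card _))]
    infer_instance

theorem closed_of_normal {p : ℕ} [Fact p.Prime] (P : Sylow p G) (h : (P : Subgroup G).Normal) :
    IsPClosed p G := fun Q => by
  haveI := Sylow.unique_of_normal P h
  rwa [Subsingleton.elim Q P]

theorem closed_sub_iff {p : ℕ} [Fact p.Prime] {P H : Subgroup G} (h : H2.SylIn p P H) :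
    IsPClosed p H ↔ H ≤ normalizer (P : Set G) := by
  obtain ⟨S, hS⟩ := h.exists_sylow
  rw [← normal_subgroupOf_iff_le_normalizer h.le, ← hS]
  exact ⟨fun h => h S, closed_of_normal S⟩

theorem closed_of_quot {p : ℕ} [Fact p.Prime] {N : Subgroup G} [N.Normal] (hN : IsPGroup p N)
    (h : IsPClosed p (G ⧸ N)) : IsPClosed p G := fun P => by
  have h1 := h (P.mapSurjective (QuotientGroup.mk'_surjective N))
  have h2 := h1.comap (QuotientGroup.mk' N)
  rw [Sylow.coe_mapSurjective, H1.comap_map_mk', sup_eq_left.2 (hN.le_sylow_of_normal P)] at h2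
  exact h2

end Cfsg.Agent.Reg
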