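/-
The strong `P × Q` lemma for odd primes and the Bender-Thompson lemma.
-/
import Cfsg.Agent.H8.Bender
import Cfsg.Agent.GS.MinAct

set_option linter.unusedSectionVars false

namespace Cfsg.Agent.SF

open Subgroup Cfsg.Agent.H1 Cfsg.Agent.BG
open Cfsg.Agent.H2 hiding card_lt_of_lt card_lt_of_ne_top isMulCommutative_of_le isPGroup_zpowers_iff mem_of_pow_mem_of_coprime
open Cfsg.Agent.H8 (Op Opp Fit Fs Lay PLay SN Comp Op_le Opp_le Opp_coprime Op_isPGroup le_normalizer_Op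
  le_normalizer_Opp le_normalizer_Opp_of le_normalizer_Op_of le_Op le_Opp inf_Opp_le)
open scoped commutatorElement

universe u
variable {G : Type u} [Group G] {p q r : ℕ}
variable {A B D E F H K L M N P Q R S T U V W X Y Z : Subgroup G} {a b c g t x y : G}

/-- symmetric product -/
def symP : List G → G
  | [] => 1
  | a :: l => a * symP l * a

theorem symP_mem {l : List G} (h : ∀ a ∈ l, a ∈ U) : symP l ∈ U := by
  induction l with
  | nil => exact one_mem _
  | cons a l ih =>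
    exact mul_mem (mul_mem (h a (by simp)) (ih fun b hb => h b (by simp [hb]))) (h a (by simp))

theorem symP_perm (hc : ⁅U, U⁆ ≤ 𝒞 U) {l l' : List G} (hl : l.Perm l') (h : ∀ a ∈ l, a ∈ U) :
    symP l = symP l' := by
  induction hl with
  | nil => rfl
  | cons a _ ih => simp only [symP]; rw [ih fun b hb => h b (by simp [hb])]
  | swap a b l =>
    have ha : a ∈ U := h a (by simp)
    have hb : b ∈ U := h b (by simp)
    have hs : symP l ∈ U := symP_mem fun c hc => h c (by simp [hc])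
    have h1 := mem_centralizer_iff.1 (hc (commutator_mem_commutator (inv_mem ha) (inv_mem hb)))
    have h2 := h1 _ (mul_mem hs (mul_mem ha hb))
    simp only [symP]
    calc b * (a * symP l * a) * b = b * a * (symP l * (a * b)) := by group
      _ = a * b * (⁅a⁻¹, b⁻¹⁆⁻¹ * (symP l * (a * b))) := by rw [commutatorElement_def]; group
      _ = a * b * (symP l * (a * b) * ⁅a⁻¹, b⁻¹⁆⁻¹) := by
        rw [show ⁅a⁻¹, b⁻¹⁆⁻¹ * (symP l * (a * b)) = symP l * (a * b) * ⁅a⁻¹, b⁻¹⁆⁻¹ from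
          (Commute.inv_right h2).symm]
      _ = _ := by
        have h4 : a * b * ⁅a⁻¹, b⁻¹⁆⁻¹ = b * a := by rw [commutatorElement_def]; group
        rw [mul_assoc (symP l), h4]; group
  | trans h1 _ ih1 ih2 => rw [ih1 h, ih2 fun a ha => h a (h1.mem_iff.2 ha)]

theorem symP_conj (g : G) (l : List G) : g * symP l * g⁻¹ = symP (l.map fun a => g * a * g⁻¹) := by
  induction l with
  | nil => simp [symP]
  | cons a l ih => simp only [symP, List.map_cons, ← ih]; group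

theorem symP_mul {z : G} (hz : z ∈ 𝒞 U) {l : List G} (h : ∀ a ∈ l, a ∈ U) :
    symP (l.map fun a => a * z) = symP l * z ^ (2 * l.length) := by
  induction l with
  | nil => simp [symP]
  | cons a l ih =>
    have ha : Commute a z := mem_centralizer_iff.1 hz a (h a (by simp))
    have hs : Commute (symP l) z := mem_centralizer_iff.1 hz _ (symP_mem fun c hc => h c (by simp [hc]))
    simp only [symP, List.map_cons, List.length_cons]
    rw [ih fun b hb => h b (by simp [hb])]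
    calc a * z * (symP l * z ^ (2 * l.length)) * (a * z)
        = a * (z * symP l) * (z ^ (2 * l.length) * a) * z := by group
      _ = _ := by rw [← hs.eq, ← (ha.pow_right _).eq]
                  simp only [mul_assoc]
                  rw [← mul_assoc z a, ← ha.eq]; group

/-- the symmetric trace -/
noncomputable def symT (Q : Subgroup G) [Fintype Q] (x : G) : G :=
  symP ((Finset.univ : Finset Q).toList.map fun u : Q => u * x * (u : G)⁻¹)

theorem perm_univ {α : Type*} [Fintype α] (e : α ≃ α) :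
    ((Finset.univ : Finset α).toList.map e).Perm (Finset.univ : Finset α).toList := by
  rw [← Multiset.coe_eq_coe, ← Multiset.map_coe, Finset.coe_toList, Multiset.map_univ_val_equiv]

theorem symT_conj [Fintype Q] (hc : ⁅U, U⁆ ≤ 𝒞 U) (hQ : Q ≤ 𝒩 U) (hx : x ∈ U) (hg : g ∈ 𝒩 U) (e : Q ≃ Q)
    (he : ∀ u : Q, g * (u * x * (u : G)⁻¹) * g⁻¹ = e u * y * (e u : G)⁻¹) :
    g * symT Q x * g⁻¹ = symT Q y := by
  unfold symT
  rw [symP_conj, List.map_map]
  have h1 := (perm_univ e).map fun u : Q => u * y * (u : G)⁻¹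
  rw [List.map_map] at h1
  have h2 : ((fun a => g * a * g⁻¹) ∘ fun u : Q => u * x * (u : G)⁻¹) =
      ((fun u : Q => u * y * (u : G)⁻¹) ∘ e) := funext he
  rw [← h2] at h1
  refine symP_perm hc h1 fun a ha => ?_
  obtain ⟨u, -, rfl⟩ := List.mem_map.1 ha
  exact H8.conj_mem_of_mem_normalizer hg (H8.conj_mem_of_mem_normalizer (hQ u.2) hx)

theorem symT_mem [Fintype Q] (hQ : Q ≤ 𝒩 U) (hx : x ∈ U) : symT Q x ∈ U :=
  symP_mem fun a ha => by
    obtain ⟨u, -, rfl⟩ := List.mem_map.1 ha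
    exact H8.conj_mem_of_mem_normalizer (hQ u.2) hx

theorem symT_mul [Fintype Q] (hQ : Q ≤ 𝒩 U) (hx : x ∈ U) {z : G} (hz : z ∈ 𝒞 U) (hz' : z ∈ 𝒞 Q) :
    symT Q (x * z) = symT Q x * z ^ (2 * ♯Q) := by
  unfold symT
  have h1 := symP_mul hz (l := (Finset.univ : Finset Q).toList.map fun u : Q => u * x * (u : G)⁻¹) fun a ha => by
    obtain ⟨u, -, rfl⟩ := List.mem_map.1 ha
    exact H8.conj_mem_of_mem_normalizer (hQ u.2) hx
  rw [List.length_map, Finset.length_toList, Finset.card_univ, ← Nat.card_eq_fintype_card, List.map_map] at h1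
  rw [← h1]
  congr 2
  funext u
  have := mem_centralizer_iff.1 hz' _ (inv_mem u.2)
  simp only [Function.comp, mul_assoc, this]

variable [Finite G] [hp : Fact p.Prime]

theorem strong_pxq (hp2 : p ≠ 2) (hP : IsPGroup p P) (hQ : (♯Q).Coprime p) (hPQ : P ≤ 𝒩 Q) (hR : IsPGroup p R)
    (hPR : P ≤ 𝒩 R) (hQR : Q ≤ 𝒩 R) (hC : R ⊓ 𝒞 P ≤ 𝒞 Q) : Q ≤ 𝒞 R := by
  by_contra h
  obtain ⟨U, hUR, hU⟩ := GS.exists_minAct (B := P ⊔ Q) hR (sup_le hPR hQR) le_sup_right
    (sup_le hPQ le_normalizer) hQ h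
  have := Fintype.ofFinite Q
  have hc : ⁅U, U⁆ ≤ 𝒞 U := le_cent_iff_comm.2 hU.class_two
  have hPU : P ≤ 𝒩 U := le_sup_left.trans hU.norm
  have hZ : ∀ z ∈ Phi U, z ∈ 𝒞 U ∧ z ∈ 𝒞 Q ∧ z ^ p = 1 := fun z hz =>
    ⟨hU.phi_le_cent hz, (hU.cent_eq.ge hz).2, hU.phi_pow hz⟩
  have hn : 𝒩 U ≤ 𝒩 (Phi U) := hU.phi_eq ▸ norm_le_norm_der U
  obtain ⟨x, hx, h1, h2⟩ := exists_central_mod_le (isNilpotent_of_pgroup (isPGroup_sup hP hU.pgrp hPU))
    le_sup_right (sup_le hPU le_normalizer) ((sup_le hPU le_normalizer).trans hn)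
    fun e => (hU.exists_not_mem.elim fun x hx => hx.2 (e hx.1))
  have hcop : (2 * ♯Q).Coprime p := Nat.Coprime.mul_left
    ((Nat.coprime_primes Nat.prime_two hp.out).2 hp2.symm) hQ
  have hT : symT Q x ∈ Phi U := hU.cent_eq.le ⟨symT_mem hU.normA hx, mem_centralizer_iff.2 fun v hv =>
    mul_inv_eq_iff_eq_mul.1 (symT_conj hc hU.normA hx (hU.normA hv) (Equiv.mulLeft ⟨v, hv⟩) fun u => by
      simp only [Equiv.coe_mulLeft, coe_mul]; group)⟩
  obtain ⟨m, hm⟩ := exists_pow_eq_self_of_coprime (x := (symT Q x)⁻¹) (n := 2 * ♯Q)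
    (hcop.coprime_dvd_right (orderOf_dvd_of_pow_eq_one (hZ _ (inv_mem hT)).2.2))
  set z := (symT Q x)⁻¹ ^ m with hz
  have hzm : z ∈ Phi U := pow_mem (inv_mem hT) m
  have hxz : x * z ∈ U := mul_mem hx ((hU.cent_eq.ge hzm).1)
  have h3 : symT Q (x * z) = 1 := by
    rw [symT_mul hU.normA hx (hZ z hzm).1 (hZ z hzm).2.1, hz, ← pow_mul, mul_comm m, pow_mul, hm,
      mul_inv_cancel]
  refine h1 ?_
  have h4 : x * z ∈ Phi U := hU.cent_eq.le ⟨hxz, hC ⟨hUR hxz, mem_centralizer_iff.2 fun g hg => ?_⟩⟩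
  · simpa using mul_mem h4 (inv_mem hzm)
  have h5 : (x * z)⁻¹ * (g * (x * z) * g⁻¹) ∈ Phi U := by
    have h6 := H8.conj_mem_of_mem_normalizer' (hn (le_normalizer hx)) (inv_mem (h2 g (mem_sup_left hg)))
    have h7 := H8.conj_mem_of_mem_normalizer (hn (hPU hg)) hzm
    convert mul_mem (mul_mem (inv_mem hzm) h6) h7 using 1
    rw [commutatorElement_def]; group
  have h6 := symT_conj hc hU.normA hxz (hPU hg) (y := g * (x * z) * g⁻¹)
    (normalizerMonoidHom Q ⟨g, hPQ hg⟩).toEquiv fun u => by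
      show _ = g * u * g⁻¹ * _ * (g * u * g⁻¹)⁻¹
      group
  rw [h3, ← mul_inv_cancel_left (x * z) (g * (x * z) * g⁻¹), symT_mul hU.normA hxz (hZ _ h5).1 (hZ _ h5).2.1,
    h3, mul_one, mul_inv_cancel, one_mul] at h6
  have h7 := (Nat.Coprime.eq_one_of_dvd (Nat.Coprime.coprime_dvd_left (orderOf_dvd_of_pow_eq_one h6.symm) hcop)
    (orderOf_dvd_of_pow_eq_one (hZ _ h5).2.2))
  rw [orderOf_eq_one_iff, inv_mul_eq_one] at h7
  exact mul_inv_eq_iff_eq_mul.1 h7.symm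

theorem card_pPrimeCore_coprime (p : ℕ) (G : Type u) [Group G] [Finite G] : (♯(pPrimeCore p G)).Coprime p := by
  have := Opp_coprime p (⊤ : Subgroup G)
  rwa [H8.Opp_top] at this

theorem quot_char [(pPrimeCore p G).Normal] (h : PLay p (⊤ : Subgroup G) = ⊥) :
    Fs (⊤ : Subgroup (G ⧸ pPrimeCore p G)) = Op p ⊤ := by
  refine H8.Fs_eq_Op_iff_PLay.2 ⟨?_, by rw [H8.Opp_top]; exact H1.pPrimeCore_quotient_eq_bot _ rfl⟩
  have := H8.map_PLay (p := p) (X := ⊤) (QuotientGroup.mk' (pPrimeCore p G)) (by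
    rw [QuotientGroup.ker_mk', inf_top_eq]; exact card_pPrimeCore_coprime p G)
  rw [h, Subgroup.map_bot, map_top_of_surjective _ (QuotientGroup.mk'_surjective _)] at this
  exact this.symm

theorem bt_char (hp2 : p ≠ 2) (hX : Fs X = Op p X) (hA : IsPGroup p A) (hAX : A ≤ X)
    (hΩ : ∀ x ∈ X ⊓ 𝒞 A, orderOf x = p → x ∈ A) (hQ : (♯Q).Coprime p) (hQX : Q ≤ X) (hn : A ≤ 𝒩 Q) :
    Q = ⊥ := by
  have h0 := H8.Fs_eq_Op_iff.1 hX
  refine H8.eq_bot_of_pgroup_coprime (isPGroup_of_le (Op_isPGroup p X) (le_trans (le_inf hQX ?_) h0)) hQ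
  by_cases h1 : Op p X = ⊥
  · rw [h1]; exact le_cent_comm.1 bot_le
  obtain ⟨H, h2, -, h3, -, h4, h5⟩ := critical_odd hp2 (Op_isPGroup p X) h1
  have h6 := (le_normalizer_Op p X).trans h3
  have hH := isPGroup_of_le (Op_isPGroup p X) h2
  refine h5 Q (hQX.trans (le_normalizer_Op p X)) hQ (strong_pxq hp2 hA hQ hn hH (hAX.trans h6)
    (hQX.trans h6) (le_trans (b := H ⊓ A) (fun x hx => ⟨hx.1, ?_⟩) (le_cent_iff_comm.2 (le_bot_iff.1 ?_))))
  · by_cases e : x = 1
    · exact e ▸ one_mem _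
    · exact hΩ x ⟨(h2.trans (Op_le p X)) hx.1, hx.2⟩ (orderOf_eq_prime (h4 x hx.1) e)
  · rw [← H8.inf_eq_bot_of_pgroup_coprime hH hQ]
    exact le_inf ((commutator_mono inf_le_left le_rfl).trans (BL.comm_left (hQX.trans h6)))
      (BL.comm_right (inf_le_right.trans hn))

theorem lift_cent_ord [N.Normal] (hN : (♯N).Coprime p) (hA : IsPGroup p A) {y : G ⧸ N}
    (hy : y ∈ 𝒞 (A.map (QuotientGroup.mk' N))) (h1 : orderOf y = p) :
    ∃ x ∈ 𝒞 A, orderOf x = p ∧ QuotientGroup.mk' N x = y := by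
  rw [← map_mk'_centralizer (coprime_of_pgroup hA hN) (Or.inl (isSolvable_of_isPGroup hA))] at hy
  obtain ⟨x, hx, rfl⟩ := hy
  obtain ⟨n, h2, k, h3⟩ := exists_lift_ppow (p := p) (QuotientGroup.mk' N) x (j := 1)
    (by rw [pow_one, ← h1, pow_orderOf_eq_one])
  refine ⟨x ^ n, pow_mem hx n, orderOf_eq_prime ?_ fun e => ?_, h2⟩
  · have h4 : (x ^ n) ^ p ∈ N := by
      rw [← QuotientGroup.eq_one_iff, ← QuotientGroup.mk'_apply, map_pow, h2, ← h1, pow_orderOf_eq_one]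
    exact eq_one_of_mem_pgroup_of_coprime (H2.isPGroup_zpowers_iff.2 ⟨k, h3⟩)
      (pow_mem (mem_zpowers _) p) (H8.orderOf_coprime_of_mem hN h4)
  · rw [← h2, e, map_one, orderOf_one] at h1
    exact hp.out.one_lt.ne h1

theorem bender_thompson (hp2 : p ≠ 2) (hX : PLay p (⊤ : Subgroup G) = ⊥) (hA : IsPGroup p A)
    (hΩ : ∀ x ∈ 𝒞 A, orderOf x = p → x ∈ A) (hQ : (♯Q).Coprime p) (hn : A ≤ 𝒩 Q) : Q ≤ pPrimeCore p G := by
  have : (pPrimeCore p G).Normal := H8.Opp_top (G := G) p ▸ H8.normal_of_top_le (le_normalizer_Opp p ⊤)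
  have h := bt_char hp2 (quot_char hX) (hA.map (QuotientGroup.mk' _)) le_top (Q := Q.map (QuotientGroup.mk' _))
    (fun y hy h1 => by
      obtain ⟨x, h2, h3, rfl⟩ := lift_cent_ord (card_pPrimeCore_coprime p G) hA hy.2 h1
      exact mem_map_of_mem _ (hΩ x h2 h3)) (H8.coprime_map _ hQ) le_top
    ((map_mono hn).trans (le_normalizer_map _))
  rwa [Subgroup.map_eq_bot_iff, QuotientGroup.ker_mk'] at h

end Cfsg.Agent.SF
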