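import Cfsg.Agent.GS.ZasE
import Cfsg.Agent.H8.Misc
import Cfsg.Agent.H8.Rk3
import Cfsg.Agent.H1.Burnside

set_option autoImplicit false

namespace Cfsg.Agent.Rp
open Subgroup Cfsg.Agent.GS Finset

universe u v

section
variable {G : Type u} [Group G] {N : Type v} [CommGroup N] {φ : G →* MulAut N}

theorem sd_pow_left (x : N ⋊[φ] G) (n : ℕ) :
    (x ^ n).left = ∏ i ∈ range n, φ (x.right ^ i) x.left := by
  induction n with
  | zero => simp
  | succ n ih =>
    have : (x ^ n).right = x.right ^ n := map_pow (SemidirectProduct.rightHom (φ := φ)) x n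
    rw [pow_succ, SemidirectProduct.mul_left, ih, prod_range_succ, this]

theorem sd_pow_right (x : N ⋊[φ] G) (n : ℕ) : (x ^ n).right = x.right ^ n :=
  map_pow (SemidirectProduct.rightHom (φ := φ)) x n

theorem sd_pow_eq_one {x : N ⋊[φ] G} {n : ℕ} :
    x ^ n = 1 ↔ ∏ i ∈ range n, φ (x.right ^ i) x.left = 1 ∧ x.right ^ n = 1 := by
  rw [← sd_pow_left, ← sd_pow_right]
  exact ⟨fun h => by simp [h], fun h => SemidirectProduct.ext h.1 h.2⟩

theorem sd_pow_of_fpf {x : N ⋊[φ] G} {n : ℕ} (h : x.right ^ n = 1)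
    (hf : ∀ v, φ x.right v = v → v = 1) : x ^ n = 1 := by
  refine sd_pow_eq_one.2 ⟨hf _ ?_, h⟩
  rw [map_prod]
  have h1 := prod_range_succ (fun i => φ (x.right ^ i) x.left) n
  have h2 := prod_range_succ' (fun i => φ (x.right ^ i) x.left) n
  rw [h1, h, pow_zero] at h2
  rw [mul_right_cancel h2]
  refine prod_congr rfl fun i _ => ?_
  rw [pow_succ', map_mul]; rfl

theorem sd_pow_of_exp {x : N ⋊[φ] G} {n l : ℕ} (h : x.right ^ n = 1) (hl : ∀ v : N, v ^ l = 1) :
    x ^ (n * l) = 1 := by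
  have : x ^ n = SemidirectProduct.inl (x ^ n).left :=
    SemidirectProduct.ext rfl (by rw [sd_pow_right, h]; rfl)
  rw [pow_mul, this, ← map_pow, hl, map_one]

theorem sd_order_dvd (x : N ⋊[φ] G) : orderOf x.right ∣ orderOf x :=
  orderOf_dvd_of_pow_eq_one (by rw [← sd_pow_right, pow_orderOf_eq_one]; rfl)

theorem sd_order_mul {x : N ⋊[φ] G} {l : ℕ} (hp : l.Prime) (hl : ∀ v : N, v ^ l = 1)
    (h : ∏ i ∈ range (orderOf x.right), φ (x.right ^ i) x.left ≠ 1) :
    orderOf x = l * orderOf x.right := by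
  obtain ⟨k, hk⟩ := sd_order_dvd x
  have h0 : orderOf x.right ≠ 0 := by intro e; rw [e] at h; simp at h
  have h1 := orderOf_dvd_of_pow_eq_one (sd_pow_of_exp (pow_orderOf_eq_one x.right) hl)
  rw [hk] at h1
  rcases (Nat.dvd_prime hp).1 (Nat.dvd_of_mul_dvd_mul_left (Nat.pos_of_ne_zero h0) h1) with e | e
  · exfalso; apply h
    have := pow_orderOf_eq_one x
    rw [hk, e, mul_one] at this
    exact (sd_pow_eq_one.1 this).1
  · rw [hk, e, mul_comm]

theorem sd_order_eq {x : N ⋊[φ] G}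
    (h : ∏ i ∈ range (orderOf x.right), φ (x.right ^ i) x.left = 1) :
    orderOf x = orderOf x.right :=
  Nat.dvd_antisymm (orderOf_dvd_of_pow_eq_one (sd_pow_eq_one.2 ⟨h, pow_orderOf_eq_one _⟩))
    (sd_order_dvd x)

theorem sd_spec_le : spec G ⊆ spec (N ⋊[φ] G) :=
  spec_sub _ SemidirectProduct.inr_injective

theorem sd_ker [Nontrivial N] : (SemidirectProduct.rightHom (φ := φ)).ker ≠ ⊥ := by
  obtain ⟨v, hv⟩ := exists_ne (1 : N)
  intro e
  have : (SemidirectProduct.inl v : N ⋊[φ] G) ∈ (SemidirectProduct.rightHom (φ := φ)).ker := by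
    simp [MonoidHom.mem_ker]
  rw [e, mem_bot] at this
  exact hv (SemidirectProduct.inl_injective (this.trans (map_one _).symm))

theorem sd_ker_pow {l : ℕ} (hl : ∀ v : N, v ^ l = 1) :
    ∀ x ∈ (SemidirectProduct.rightHom (φ := φ)).ker, x ^ l = 1 := by
  intro x hx
  have := sd_pow_of_exp (x := x) (n := 1) (by simpa using hx) hl
  simpa using this

theorem sd_ker_solv : Group.IsSolvable (SemidirectProduct.rightHom (φ := φ)).ker := by
  refine Group.isSolvable_of_comm ?_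
  rintro ⟨a, ha⟩ ⟨b, hb⟩
  rw [← SemidirectProduct.range_inl_eq_ker_rightHom] at ha hb
  obtain ⟨a, rfl⟩ := ha
  obtain ⟨b, rfl⟩ := hb
  exact Subtype.ext (by simp [← map_mul, mul_comm])

end

theorem large_of {G : Type u} [Group G] [Finite G] (K : Subgroup G) [K.Normal] (hK : K ≠ ⊥)
    (hs : Group.IsSolvable K) {S : Set ℕ} (h : spec G = S) (n : ℕ) :
    ∃ (H : Type) (_ : Group H) (_ : Fintype H), n < Fintype.card H ∧
      Set.range (orderOf : H → ℕ) = S := by
  obtain ⟨H, _, _, a, b⟩ := spec_large K hK hs n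
  letI := Fintype.ofFinite H
  exact ⟨H, _, this, by rwa [← Nat.card_eq_fintype_card], b.trans h⟩

/-- The function module attached to a conjugation-closed set `S`. -/
def FM {G : Type u} [Group G] (A : Type) [AddCommGroup A] (S : Set G) : AddSubgroup (G → A) where
  carrier := {f | ∀ s ∈ S, ∀ x y, ∑ i ∈ range (orderOf s), f (x * s ^ i * y) = 0}
  add_mem' := fun {f g} hf hg s hs x y => by
    simp only [Pi.add_apply, sum_add_distrib, hf s hs x y, hg s hs x y, add_zero]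
  zero_mem' := fun s _ x y => by simp
  neg_mem' := fun {f} hf s hs x y => by
    simp only [Pi.neg_apply, sum_neg_distrib, hf s hs x y, neg_zero]

def fmAct {G : Type u} [Group G] (A : Type) [AddCommGroup A] (S : Set G) :
    G →* AddMonoid.End (FM A S) where
  toFun g :=
    { toFun := fun f => ⟨fun x => f.1 (x * g), fun s hs x y => by
        simpa only [mul_assoc] using f.2 s hs x (y * g)⟩
      map_zero' := rfl
      map_add' := fun _ _ => rfl }
  map_one' := by ext f x; exact congrArg f.1 (mul_one x)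
  map_mul' g h := by ext f x; exact congrArg f.1 (mul_assoc x g h).symm

theorem exists_fm {G : Type} [Group G] [Finite G] {A : Type} [AddCommGroup A] [Finite A] {l : ℕ}
    (hl : l.Prime) (hA : ∀ a : A, l • a = 0) (S : Set G) (f : G → A) (hf0 : f ≠ 0)
    (hf : ∀ s ∈ S, ∀ x y, ∑ i ∈ range (orderOf s), f (x * s ^ i * y) = 0) :
    ∃ (L : Type) (_ : Group L) (_ : Finite L) (K : Subgroup L), K.Normal ∧ K ≠ ⊥ ∧
      Group.IsSolvable K ∧ (∀ x ∈ K, x ^ l = 1) ∧ spec G ⊆ spec L ∧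
      (∀ g y, ∑ i ∈ range (orderOf g), f (y * g ^ i) ≠ 0 → l * orderOf g ∈ spec L) ∧
      ∀ m ∈ spec L, ∃ g : G, m = orderOf g ∨
        (m = l * orderOf g ∧ ∀ k, k ∣ orderOf g → g ^ k ∉ S) := by
  haveI : Nontrivial (FM A S) := ⟨⟨⟨f, hf⟩, 0, fun e => hf0 (congrArg Subtype.val e)⟩⟩
  have hexp : ∀ v : Multiplicative (FM A S), v ^ l = 1 := fun v =>
    show l • v.toAdd = 0 from Subtype.ext (funext fun x => by simpa using hA _)
  have hsum : ∀ (v : FM A S) (g : G) (n : ℕ) (y : G),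
      ((∏ i ∈ range n, autOfEnd (fmAct A S) (g ^ i) (Multiplicative.ofAdd v)).toAdd : FM A S).1 y =
        ∑ i ∈ range n, v.1 (y * g ^ i) := by
    intro v g n y
    rw [toAdd_prod, AddSubmonoidClass.coe_finsetSum, Finset.sum_apply]
    rfl
  refine ⟨Multiplicative (FM A S) ⋊[autOfEnd (fmAct A S)] G, inferInstance, inferInstance,
    SemidirectProduct.rightHom.ker, inferInstance, sd_ker, sd_ker_solv, sd_ker_pow hexp, sd_spec_le,
    fun g y h => ⟨⟨Multiplicative.ofAdd ⟨f, hf⟩, g⟩, sd_order_mul hl hexp fun e => h ?_⟩, ?_⟩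
  · rw [← hsum ⟨f, hf⟩ g]
    erw [e]; rfl
  · rintro _ ⟨x, rfl⟩
    refine ⟨x.right, ?_⟩
    by_cases h : ∏ i ∈ range (orderOf x.right), autOfEnd (fmAct A S) (x.right ^ i) x.left = 1
    · exact Or.inl (sd_order_eq h)
    refine Or.inr ⟨sd_order_mul hl hexp h, fun k ⟨j, hj⟩ hk => h ?_⟩
    apply Multiplicative.toAdd.injective
    refine Subtype.ext (funext fun y => ?_)
    have h0 : k ≠ 0 := by
      rintro rfl
      rw [zero_mul] at hj
      exact (orderOf_pos x.right).ne' hj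
    have ho : orderOf (x.right ^ k) = j := by
      rw [orderOf_pow' _ h0, hj, Nat.gcd_mul_right_left, Nat.mul_div_cancel_left _ (Nat.pos_of_ne_zero h0)]
    refine (hsum x.left.toAdd x.right _ y).trans ?_
    rw [hj, sum_range_mul_eq]
    refine sum_eq_zero fun a _ => ?_
    have := x.left.toAdd.2 _ hk (y * x.right ^ a) 1
    rw [ho] at this
    rw [← this]
    refine sum_congr rfl fun i _ => ?_
    rw [pow_add, pow_mul, mul_one, mul_assoc]

theorem spec_three {G H : Type*} [Group G] [Group H] [Finite G] [Finite H] {A B : ℕ}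
    (h1 : spec H ⊆ spec G) (h2 : ∀ m ∈ spec G, m ∈ spec H ∨ m ∣ A ∨ m ∣ B) (hA : A ∈ spec G)
    (hB : B ∈ spec G) : spec (G × G × H) = spec (G × G × G) := by
  refine Set.Subset.antisymm ?_ ?_
  · intro m hm
    obtain ⟨a, ha, _, hx, rfl⟩ := mem_spec_prod.1 hm
    obtain ⟨b, hb, c, hc, rfl⟩ := mem_spec_prod.1 hx
    exact lcm_mem_prod ha (lcm_mem_prod hb (h1 hc))
  · intro m hm
    obtain ⟨a, ha, _, hx, rfl⟩ := mem_spec_prod.1 hm
    obtain ⟨b, hb, c, hc, rfl⟩ := mem_spec_prod.1 hx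
    rcases h2 a ha with ha' | ha'
    · rw [Nat.lcm_comm, Nat.lcm_assoc]; exact lcm_mem_prod hb (lcm_mem_prod hc ha')
    rcases h2 b hb with hb' | hb'
    · rw [Nat.lcm_comm b]; exact lcm_mem_prod ha (lcm_mem_prod hc hb')
    rcases h2 c hc with hc' | hc'
    · exact lcm_mem_prod ha (lcm_mem_prod hb hc')
    have h0 : (1 : ℕ) ∈ spec H := ⟨1, orderOf_one⟩
    refine mem_spec_of_dvd (lcm_mem_prod hA (lcm_mem_prod hB h0)) ?_
    have key : ∀ x, x ∣ A ∨ x ∣ B → x ∣ A.lcm (B.lcm 1) := fun x hx => hx.elim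
      (fun h => h.trans (Nat.dvd_lcm_left _ _))
      (fun h => h.trans ((Nat.dvd_lcm_left _ _).trans (Nat.dvd_lcm_right _ _)))
    exact Nat.lcm_dvd (key _ ha') (Nat.lcm_dvd (key _ hb') (key _ hc'))

theorem spec_four {G H : Type*} [Group G] [Group H] [Finite G] [Finite H] {A B C : ℕ}
    (h1 : spec H ⊆ spec G) (h2 : ∀ m ∈ spec G, m ∈ spec H ∨ m ∣ A ∨ m ∣ B ∨ m ∣ C) (hA : A ∈ spec G)
    (hB : B ∈ spec G) (hC : C ∈ spec G) : spec (G × G × G × H) = spec (G × G × G × G) := by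
  refine Set.Subset.antisymm ?_ ?_
  · intro m hm
    obtain ⟨a, ha, _, hx, rfl⟩ := mem_spec_prod.1 hm
    obtain ⟨b, hb, _, hy, rfl⟩ := mem_spec_prod.1 hx
    obtain ⟨c, hc, d, hd, rfl⟩ := mem_spec_prod.1 hy
    exact lcm_mem_prod ha (lcm_mem_prod hb (lcm_mem_prod hc (h1 hd)))
  · intro m hm
    obtain ⟨a, ha, _, hx, rfl⟩ := mem_spec_prod.1 hm
    obtain ⟨b, hb, _, hy, rfl⟩ := mem_spec_prod.1 hx
    obtain ⟨c, hc, d, hd, rfl⟩ := mem_spec_prod.1 hy
    rcases h2 a ha with ha' | ha'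
    · rw [Nat.lcm_comm, Nat.lcm_assoc, Nat.lcm_assoc]
      exact lcm_mem_prod hb (lcm_mem_prod hc (lcm_mem_prod hd ha'))
    rcases h2 b hb with hb' | hb'
    · rw [Nat.lcm_comm b, Nat.lcm_assoc]; exact lcm_mem_prod ha (lcm_mem_prod hc (lcm_mem_prod hd hb'))
    rcases h2 c hc with hc' | hc'
    · rw [Nat.lcm_comm c]; exact lcm_mem_prod ha (lcm_mem_prod hb (lcm_mem_prod hd hc'))
    rcases h2 d hd with hd' | hd'
    · exact lcm_mem_prod ha (lcm_mem_prod hb (lcm_mem_prod hc hd'))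
    have h0 : (1 : ℕ) ∈ spec H := ⟨1, orderOf_one⟩
    refine mem_spec_of_dvd (lcm_mem_prod hA (lcm_mem_prod hB (lcm_mem_prod hC h0))) ?_
    have key : ∀ x, x ∣ A ∨ x ∣ B ∨ x ∣ C → x ∣ A.lcm (B.lcm (C.lcm 1)) := fun x hx => by
      rcases hx with h | h | h
      · exact h.trans (Nat.dvd_lcm_left _ _)
      · exact h.trans ((Nat.dvd_lcm_left _ _).trans (Nat.dvd_lcm_right _ _))
      · exact h.trans (((Nat.dvd_lcm_left _ _).trans (Nat.dvd_lcm_right _ _)).trans
          (Nat.dvd_lcm_right _ _))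
    exact Nat.lcm_dvd (key _ ha') (Nat.lcm_dvd (key _ hb') (Nat.lcm_dvd (key _ hc') (key _ hd')))

/-- A product with a group having a nontrivial solvable normal subgroup. -/
theorem large_of_hom {G L : Type u} [Group G] [Finite G] [Group L] [Finite L] (K : Subgroup L) [K.Normal]
    (hK : K ≠ ⊥) (hs : Group.IsSolvable K) {S : Set ℕ} (h : spec (G × L) = S) (n : ℕ) :
    ∃ (H : Type) (_ : Group H) (_ : Fintype H), n < Fintype.card H ∧
      Set.range (orderOf : H → ℕ) = S := by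
  refine large_of ((⊥ : Subgroup G).prod K) ?_ ?_ h n
  · rw [Ne, prod_eq_bot_iff]; exact fun e => hK e.2
  · exact Group.isSolvable_of_surjective (f := ((prodEquiv (⊥ : Subgroup G) K).symm.toMonoidHom))
      (prodEquiv (⊥ : Subgroup G) K).symm.surjective

section
open Cfsg.Agent.H1 Cfsg.Agent.H2
open Cfsg.Agent.L (FPF)
variable {G : Type u} [Group G] [Finite G] {K H : Subgroup G} {p : ℕ}

theorem spec_frob' [K.Normal] (hs : K ⊔ H = ⊤) (h : FPF K H) : spec G = spec K ∪ spec H := by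
  refine Set.Subset.antisymm ?_ (Set.union_subset (spec_sub _ K.subtype_injective) (spec_sub _ H.subtype_injective))
  rintro _ ⟨g, rfl⟩
  by_cases e : g ∈ K
  · exact Or.inl ⟨⟨g, e⟩, by simp⟩
  · obtain ⟨k, -, hk⟩ := h.exists_conj_mem le_normalizer_of_normal (hs ▸ mem_top g) e
    exact Or.inr ⟨⟨_, hk⟩, by simpa using (SemiconjBy.orderOf_eq k (x := k⁻¹ * g * k) (y := g) (by simp [SemiconjBy, mul_assoc]))⟩

theorem spec_of_exp' [Nontrivial G] (hp : p.Prime) (h : ∀ x : G, x ^ p = 1) : spec G = {m | m ∣ p} := by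
  refine Set.Subset.antisymm (by rintro _ ⟨g, rfl⟩; exact orderOf_dvd_of_pow_eq_one (h g)) fun m hm => ?_
  obtain ⟨x, hx⟩ := exists_ne (1 : G)
  haveI := Fact.mk hp
  exact mem_spec_of_dvd ⟨x, orderOf_eq_prime (h x) hx⟩ hm

end

section
open Cfsg.Agent.H1 Cfsg.Agent.H2
open Cfsg.Agent.L (FPF)

theorem fc_spec {G : Type} [Group G] [Finite G] (h : FC G) (hs : Group.IsSolvable G) {l : ℕ} (hl : l.Prime)
    (hlG : ¬ l ∣ Nat.card G) :
    ∃ (L : Type) (_ : Group L) (_ : Fintype L), Group.IsSolvable L ∧ spec L = {m | m ∣ l} ∪ spec G := by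
  obtain ⟨V, _, _, _, ψ, a, hψ⟩ := h.exists_end hl hlG
  have hexp : ∀ v : Multiplicative V, v ^ l = 1 := fun v => a v.toAdd
  refine ⟨Multiplicative V ⋊[autOfEnd ψ] G, inferInstance, Fintype.ofFinite _, ?_, ?_⟩
  · haveI := sd_ker_solv (φ := autOfEnd ψ)
    exact Group.isSolvable_of_ker_le_range (SemidirectProduct.rightHom (φ := autOfEnd ψ)).ker.subtype
      SemidirectProduct.rightHom (by simp)
  refine Set.Subset.antisymm ?_ (Set.union_subset ?_ sd_spec_le)
  · rintro _ ⟨x, rfl⟩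
    by_cases e : x.right = 1
    · exact Or.inl (orderOf_dvd_of_pow_eq_one (sd_ker_pow hexp x e))
    · exact Or.inr ⟨x.right, Nat.dvd_antisymm (sd_order_dvd x) (orderOf_dvd_of_pow_eq_one (sd_pow_of_fpf
        (pow_orderOf_eq_one _) fun v hv => hψ _ e v.toAdd (congrArg Multiplicative.toAdd hv)))⟩
  · rw [← spec_of_exp' hl hexp]
    exact spec_sub _ SemidirectProduct.inl_injective

end

end Cfsg.Agent.Rp
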