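/-
Consequences of `p`-stability.
-/
import Cfsg.Agent.H8.PxQ
import Cfsg.Agent.H9.Stab
import Cfsg.Agent.H9.Quad

set_option linter.unusedSectionVars false

namespace Cfsg.Agent.SF

open Subgroup Cfsg.Agent.H1 Cfsg.Agent.BG
open Cfsg.Agent.H2 hiding card_lt_of_lt card_lt_of_ne_top isMulCommutative_of_le isPGroup_zpowers_iff mem_of_pow_mem_of_coprime
open Cfsg.Agent.H8 (Op Opp Fit Fs Lay PLay SN Comp Op_le Opp_le Opp_coprime Op_isPGroup le_normalizer_Op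
  le_normalizer_Opp le_normalizer_Opp_of le_normalizer_Op_of le_Op le_Opp inf_Opp_le ncl)
open scoped commutatorElement

universe u
variable {G : Type u} [Group G] [Finite G] {p q r : ℕ} [hp : Fact p.Prime]
variable {A B D E F H K L M N P Q R S T U V W X Y Z : Subgroup G} {a b c g t x y : G}

theorem pSt_of_odd (hp2 : p ≠ 2) (h : Odd ♯G) : PSt p G :=
  H9.pSt_of_abSyl hp2 (H9.abSyl_of_not_dvd fun e => (Nat.not_even_iff_odd.2 h) (even_iff_two_dvd.2 e))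

theorem res_ncl_le (hst : PSt p G) (hH : IsPGroup p H) (hX : X ≤ 𝒩 H) (hg : g ∈ X)
    (h : ⁅⁅H, zpowers g⁆, zpowers g⁆ = ⊥) : resOf p (ncl (zpowers g) X) ≤ 𝒞 H :=
  (resOf_mono (H8.ncl_mono le_rfl hX)).trans (hst H hH g (hX hg) h)

theorem le_Op_of_quad' (hst : PSt p G) (hH : IsPGroup p H) (hX : X ≤ 𝒩 H) (hY : Y ≤ X)
    (h : ⁅⁅H, Y⁆, Y⁆ = ⊥) (hc : ∀ y ∈ X ⊓ 𝒞 H, (orderOf y).Coprime p → y = 1) : Y ≤ Op p X := fun g hg => by
  have h1 := res_ncl_le hst hH hX (hY hg) (eq_bot_mono h (commutator_mono (commutator_mono le_rfl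
    (zpowers_le.2 hg)) (zpowers_le.2 hg)))
  have h2 := H8.ncl_le_of_le (zpowers_le.2 (hY hg))
  refine le_Op h2 (H8.le_normalizer_ncl _ _) (H8.resOf_eq_bot_iff.1 (le_bot_iff.1 (resOf_le_iff.2
    fun y hy h3 => hc y ⟨h2 hy, h1 (mem_resOf hy h3)⟩ h3))) (H8.le_ncl _ _ (mem_zpowers g))

theorem eq_one_of_char (hX : Fs X = Op p X) (hy : y ∈ X ⊓ 𝒞 (Op p X)) (h : (orderOf y).Coprime p) : y = 1 :=
  eq_one_of_mem_pgroup_of_coprime (Op_isPGroup p X) (H8.Fs_eq_Op_iff.1 hX hy) h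

theorem le_Op_of_quad (hst : PSt p G) (hX : Fs X = Op p X) (hY : Y ≤ X) (h : ⁅⁅Op p X, Y⁆, Y⁆ = ⊥) :
    Y ≤ Op p X :=
  le_Op_of_quad' hst (Op_isPGroup p X) (le_normalizer_Op p X) hY h fun _ => eq_one_of_char hX

theorem le_Op_of_abel (hst : PSt p G) (hX : Fs X = Op p X) (hY : Y ≤ X) (hc : IsMulCommutative Y)
    (hn : Op p X ≤ 𝒩 Y) : Y ≤ Op p X :=
  le_Op_of_quad hst hX hY (le_cent_iff_comm.1 ((BL.comm_right hn).trans (le_cent_self hc)))

/-- a Sylow subgroup with cyclic derived group -/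
theorem le_Op_of_cyclic_der (hp2 : p ≠ 2) (hst : PSt p G) (hX : Fs X = Op p X) (hS : IsPGroup p S) (hSX : S ≤ X)
    (hO : Op p X ≤ S) (hc : IsCyclic ↥⁅S, S⁆) : S ≤ Op p X := by
  by_cases h1 : Op p X = ⊥
  · exact hSX.trans (le_trans (le_inf le_rfl (h1 ▸ le_cent_comm.1 bot_le)) (H8.Fs_eq_Op_iff.1 hX))
  obtain ⟨H, h2, -, h3, -, h4, h5⟩ := critical_odd hp2 (Op_isPGroup p X) h1
  have h6 := (le_normalizer_Op p X).trans h3
  refine le_Op_of_quad' hst (isPGroup_of_le (Op_isPGroup p X) h2) h6 hSX ?_ fun y hy h7 =>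
    eq_one_of_char hX ⟨hy.1, zpowers_le.1 (h5 _ ((zpowers_le.2 hy.1).trans (le_normalizer_Op p X))
      (by rwa [Nat.card_zpowers]) (zpowers_le.2 hy.2))⟩ h7
  by_cases h0 : ⁅H, S⁆ = ⊥
  · rw [h0, commutator_bot_left]
  have h7 := isCyclic_of_le hc (commutator_mono (h2.trans hO) (le_refl S))
  have h8 : ∀ x ∈ ⁅H, S⁆, x ^ p = 1 := fun x hx => h4 x (BL.comm_left (hSX.trans h6) hx)
  exact le_cent_iff_comm.1 (le_cent_comm.1 (le_centralizer_of_card_prime hS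
    (BL.card_eq_of_cyclic_elem ⟨comm_of_cyclic h7, h8⟩ le_rfl h7 h0) (BL.norm_comm_right H S)))

theorem pPrimeCore_normal' (p : ℕ) (G : Type u) [Group G] : (pPrimeCore p G).Normal :=
  H8.Opp_top (G := G) p ▸ H8.normal_of_top_le (le_normalizer_Opp p ⊤)

omit hp in
theorem odd_quot (h : Odd ♯G) (N : Subgroup G) [N.Normal] : Odd ♯(G ⧸ N) :=
  Odd.of_dvd_nat h (card_quotient_dvd_card N)

omit hp in
theorem sylIn_mk' [Fact p.Prime] (hS : SylIn p S ⊤) (N : Subgroup G) [N.Normal] :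
    SylIn p (S.map (QuotientGroup.mk' N)) ⊤ := by
  have := hS.map (QuotientGroup.mk' N)
  rwa [map_top_of_surjective _ (QuotientGroup.mk'_surjective N)] at this

/-- invariant `p'`-subgroups for a self-centralizing normal subgroup of a Sylow subgroup -/
theorem le_pPrimeCore_of_SCN (hst : ∀ [(pPrimeCore p G).Normal], PSt p (G ⧸ pPrimeCore p G))
    (hX : PLay p (⊤ : Subgroup G) = ⊥) (hS : SylIn p S ⊤) (hB : B ≤ S) (hn : S ≤ 𝒩 B)
    (hc : IsMulCommutative B) (hC : S ⊓ 𝒞 B ≤ B) (hQ : (♯Q).Coprime p) (hBQ : B ≤ 𝒩 Q) :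
    Q ≤ pPrimeCore p G := by
  have := pPrimeCore_normal' p G
  set f := QuotientGroup.mk' (pPrimeCore p G) with hf
  have h1 := quot_char hX
  have hS' := sylIn_mk' hS (pPrimeCore p G)
  have h2 := Op_le_sylIn hS'
  have h3 : B.map f ≤ Op p ⊤ := le_Op_of_abel hst h1 le_top inferInstance
    (h2.trans ((map_mono hn).trans (le_normalizer_map f)))
  have hQ' := H8.coprime_map f hQ
  have h4 : B.map f ≤ 𝒞 (Q.map f) := by
    rw [le_cent_iff_comm, ← le_bot_iff, ← H8.inf_eq_bot_of_pgroup_coprime (Op_isPGroup p ⊤) hQ']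
    exact le_inf ((commutator_mono h3 le_rfl).trans (BL.comm_left (le_top.trans (le_normalizer_Op p ⊤))))
      (BL.comm_right ((map_mono hBQ).trans (le_normalizer_map f)))
  have h5 : S.map f ⊓ 𝒞 (B.map f) ≤ B.map f := by
    rintro _ ⟨⟨s, hs, rfl⟩, h6⟩
    refine mem_map_of_mem f (hC ⟨hs, zpowers_le.1 (le_cent_iff_comm.2 (le_bot_iff.1 ?_))⟩)
    rw [← H8.inf_eq_bot_of_pgroup_coprime hS.pgrp (card_pPrimeCore_coprime p G)]
    refine le_inf (BL.comm_le_of_le (zpowers_le.2 hs) hB) ?_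
    rw [← QuotientGroup.ker_mk' (pPrimeCore p G), ← Subgroup.map_eq_bot_iff, map_commutator,
      MonoidHom.map_zpowers]
    exact le_cent_iff_comm.1 (zpowers_le.2 h6)
  have h6 := le_centralizer_of_self_centralizing (isNilpotent_of_pgroup (Op_isPGroup p ⊤)) h3
    (coprime_of_pgroup (Op_isPGroup p ⊤) hQ').symm h4 (le_top.trans (le_normalizer_Op p ⊤))
    (((inf_le_inf_right _ h2).trans h5).trans h4)
  have h7 := H8.eq_bot_of_pgroup_coprime (isPGroup_of_le (Op_isPGroup p ⊤)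
    (le_trans (le_inf le_top h6) (H8.Fs_eq_Op_iff.1 h1))) hQ'
  rwa [Subgroup.map_eq_bot_iff, QuotientGroup.ker_mk'] at h7

end Cfsg.Agent.SF
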